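import Mathlib
import Cfsg.Agent.PGroups.Basic

/-!
A 2-group with a subgroup `T = D × B`, `B` a four-group whose involutions have centralizer `T`, `D` a four-group or
nonabelian with a cyclic subgroup of index two: every elementary abelian section has order at most 16.
-/

set_option autoImplicit false

namespace Cfsg.Agent.H64.RankFour

open Subgroup

variable {P : Type*} [Group P]

/-- `SquareBound P`: every section with elementary abelian quotient has order at most 16. -/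
def SquareBound (P : Type*) [Group P] : Prop :=
  ∀ Q N : Subgroup P, N ≤ Q → (∀ q ∈ Q, ∀ n ∈ N, q * n * q⁻¹ ∈ N) → (∀ q ∈ Q, q * q ∈ N) → N.relIndex Q ≤ 16

/-- Conjugation as a homomorphism. -/
abbrev cj (s : P) : P →* P := (MulAut.conj s).toMonoidHom

theorem cj_apply (s x : P) : cj s x = s * x * s⁻¹ := rfl

theorem cj_injective (s : P) : Function.Injective (cj s) := (MulAut.conj s).injective

theorem card_map_cj (X : Subgroup P) (s : P) : Nat.card ↥(X.map (cj s)) = Nat.card X :=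
  card_map_of_injective (cj_injective s)

theorem map_cj_cj (X : Subgroup P) (u v : P) : (X.map (cj u)).map (cj v) = X.map (cj (v * u)) := by
  rw [map_map]
  congr 1
  ext x
  simp only [MonoidHom.coe_comp, Function.comp_apply, cj_apply]
  group

theorem map_cj_one (X : Subgroup P) : X.map (cj 1) = X := by
  ext x
  simp [cj]

theorem mem_normalizer_of_map {X : Subgroup P} {s : P} (h : X.map (cj s) = X) : s ∈ normalizer (X : Set P) := by
  rw [mem_normalizer_iff]
  intro x
  constructor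
  · intro hx
    exact h ▸ mem_map_of_mem (cj s) hx
  · intro hx
    obtain ⟨y, hy, e⟩ : s * x * s⁻¹ ∈ X.map (cj s) := by rw [h]; exact hx
    exact cj_injective s e ▸ hy

theorem card_inf_mul_relIndex (H T : Subgroup P) : Nat.card ↥(H ⊓ T) * T.relIndex H = Nat.card H := by
  have h := relIndex_mul_relIndex ⊥ (H ⊓ T) H bot_le inf_le_left
  rwa [relIndex_bot_left, relIndex_bot_left, inf_relIndex_left] at h

theorem card_mul_relIndex {N Q : Subgroup P} (h : N ≤ Q) : Nat.card N * N.relIndex Q = Nat.card Q := by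
  have h' := relIndex_mul_relIndex ⊥ N Q bot_le h
  rwa [relIndex_bot_left, relIndex_bot_left] at h'

theorem comm_mem {Q N : Subgroup P} (hn : ∀ q ∈ Q, ∀ n ∈ N, q * n * q⁻¹ ∈ N) (hsq : ∀ q ∈ Q, q * q ∈ N)
    {a b : P} (ha : a ∈ Q) (hb : b ∈ Q) : a * b * a⁻¹ * b⁻¹ ∈ N := by
  have e : a * b * a⁻¹ * b⁻¹ = (a * b) * (a * b) * (b⁻¹ * (a * a)⁻¹ * b⁻¹⁻¹) * (b * b)⁻¹ := by group
  rw [e]
  exact mul_mem (mul_mem (hsq _ (mul_mem ha hb)) (hn _ (inv_mem hb) _ (inv_mem (hsq a ha)))) (inv_mem (hsq b hb))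

theorem le_or_le {E T T' : Subgroup P} (h : ∀ x ∈ E, x ∈ T ∨ x ∈ T') : E ≤ T ∨ E ≤ T' := by
  by_contra hc
  push Not at hc
  obtain ⟨a, ha, haT⟩ := SetLike.not_le_iff_exists.1 hc.1
  obtain ⟨b, hb, hbT⟩ := SetLike.not_le_iff_exists.1 hc.2
  have ha' := (h a ha).resolve_left haT
  have hb' := (h b hb).resolve_right hbT
  rcases h (a * b) (mul_mem ha hb) with hab | hab
  · exact haT ((mul_mem_cancel_right hb').1 hab)
  · exact hbT ((mul_mem_cancel_left ha').1 hab)

variable [Finite P]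

/-- The commutators of `b` with `H` bound the index of its centralizer. -/
theorem relIndex_le_card (T H S : Subgroup P) {b : P} (hb : ∀ y ∈ H, b⁻¹ * (y * b * y⁻¹) ∈ S)
    (hc : ∀ y ∈ H, y * b = b * y → y ∈ T) : T.relIndex H ≤ Nat.card S := by
  let m : ↥H ⧸ T.subgroupOf H → S := fun a => ⟨_, hb _ a.out.2⟩
  refine Nat.card_le_card_of_injective m fun a a' h => ?_
  have h' := mul_left_cancel (congrArg Subtype.val h)
  rw [← QuotientGroup.out_eq' a, ← QuotientGroup.out_eq' a']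
  refine QuotientGroup.eq.2 (mem_subgroupOf.2 (hc _ (SetLike.coe_mem _) ?_))
  simp only [Subgroup.coe_mul, InvMemClass.coe_inv]
  calc (a.out : P)⁻¹ * a'.out * b
      = (a.out : P)⁻¹ * ((a'.out : P) * b * (a'.out : P)⁻¹) * a'.out := by group
    _ = b * ((a.out : P)⁻¹ * a'.out) := by rw [← h']; group

theorem squareBound_of_cyclic {c : P} (hc : (zpowers c).index ≤ 8) : SquareBound P := by
  intro Q N _ _ hsq
  obtain ⟨d, hd⟩ := (Subgroup.isCyclic_iff_exists_zpowers_eq_top (zpowers c ⊓ Q)).1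
    (Subgroup.isCyclic_of_le (inf_le_left : zpowers c ⊓ Q ≤ zpowers c))
  have hdC : d ∈ zpowers c ⊓ Q := by rw [← hd]; exact mem_zpowers d
  have hle : zpowers (d * d) ≤ N := zpowers_le.2 (hsq _ hdC.2)
  have hle' : zpowers (d * d) ≤ zpowers d := zpowers_le.2 (mul_mem (mem_zpowers _) (mem_zpowers _))
  have h1 := card_mul_relIndex hle'
  have h2 := card_mul_relIndex (zpowers_le.2 hdC.2 : zpowers d ≤ Q)
  have h3 : Nat.card (zpowers d) ≤ Nat.card (zpowers (d * d)) * 2 := by
    rw [Nat.card_zpowers, Nat.card_zpowers]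
    refine Nat.le_of_dvd (Nat.mul_pos (orderOf_pos _) two_pos) (orderOf_dvd_of_pow_eq_one ?_)
    rw [mul_comm, pow_mul, pow_two, pow_orderOf_eq_one]
  have h8 : (zpowers d).relIndex Q ≤ 8 := by
    rw [hd, inf_relIndex_right]
    refine le_trans (relIndex_le_of_le_right (le_top : Q ≤ ⊤) ?_) (by rwa [relIndex_top_right])
    rw [relIndex_top_right]
    exact index_ne_zero_of_finite
  have hNQ : zpowers (d * d) ≤ Q := hle'.trans (zpowers_le.2 hdC.2)
  have h4 := card_mul_relIndex hNQ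
  have h5 : N.relIndex Q ≤ (zpowers (d * d)).relIndex Q :=
    Nat.le_of_dvd (Nat.pos_of_ne_zero Subgroup.index_ne_zero_of_finite) (relIndex_dvd_of_le_left Q hle)
  refine h5.trans (Nat.le_of_mul_le_mul_left (?_ : Nat.card (zpowers (d * d)) * _ ≤ Nat.card (zpowers (d * d)) * 16) Nat.card_pos)
  calc Nat.card (zpowers (d * d)) * (zpowers (d * d)).relIndex Q
      = Nat.card (zpowers d) * (zpowers d).relIndex Q := by rw [h4, h2]
    _ ≤ Nat.card (zpowers (d * d)) * 2 * 8 := Nat.mul_le_mul h3 h8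
    _ = _ := by ring

/-- A nontrivial subgroup normalised by a 2-group `R` and not inside a normal `F` contains an element,
outside `F`, that is central modulo `F` and squares into `F`. -/
theorem exists_central_mod (hP : IsPGroup 2 P) (R F W : Subgroup P) (hWR : W ≤ R)
    (hFn : ∀ r ∈ R, ∀ f ∈ F, r * f * r⁻¹ ∈ F) (hWn : ∀ r ∈ R, ∀ w ∈ W, r * w * r⁻¹ ∈ W) (hne : ¬ W ≤ F) :
    ∃ w ∈ W, w ∉ F ∧ w * w ∈ F ∧ ∀ r ∈ R, w⁻¹ * (r * w * r⁻¹) ∈ F := by
  have : Fact (Nat.Prime 2) := ⟨Nat.prime_two⟩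
  have hN : (F.subgroupOf R).Normal := ⟨fun f hf r => hFn r r.2 _ hf⟩
  set π := QuotientGroup.mk' (F.subgroupOf R)
  have hq : IsPGroup 2 (↥R ⧸ F.subgroupOf R) := (hP.to_subgroup R).to_quotient _
  set W' := (W.subgroupOf R).map π
  have hW'n : W'.Normal := Subgroup.Normal.map (H := W.subgroupOf R) ⟨fun w hw r => hWn r r.2 _ hw⟩ π (QuotientGroup.mk'_surjective _)
  have hW' : W' ≠ ⊥ := by
    intro h
    rw [Subgroup.map_eq_bot_iff, QuotientGroup.ker_mk'] at h
    exact hne fun w hw => h (x := ⟨w, hWR hw⟩) hw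
  obtain ⟨z, ⟨w, hw, rfl⟩, hzc, hzo⟩ := PGroups.exists_mem_center_orderOf_eq hq W' hW'
  refine ⟨w, hw, fun h => ?_, ?_, fun r hr => ?_⟩
  · have : π w = 1 := (QuotientGroup.eq_one_iff w).2 h
    rw [this, orderOf_one] at hzo
    omega
  · have h : π (w * w) = 1 := by rw [map_mul, ← pow_two, ← hzo, pow_orderOf_eq_one]
    exact mem_subgroupOf.1 ((QuotientGroup.eq_one_iff (N := F.subgroupOf R) (w * w)).1 h)
  · have h := mem_center_iff.1 hzc (π ⟨r, hr⟩)
    have h' : π w = π (⟨r, hr⟩ * w * ⟨r, hr⟩⁻¹) := by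
      rw [map_mul, map_mul, map_inv, h, mul_inv_cancel_right]
    exact mem_subgroupOf.1 (QuotientGroup.eq.1 h')

/-! ### The abelian case -/

/-- An elementary abelian `T` of order 16 with a four-subgroup `B` whose involutions have centralizer `T`. -/
structure IsPair (T B : Subgroup P) : Prop where
  cardT : Nat.card T = 16
  cardB : Nat.card B = 4
  le : B ≤ T
  comm : ∀ a ∈ T, ∀ b ∈ T, a * b = b * a
  sq : ∀ a ∈ T, a * a = 1
  cent : ∀ b ∈ B, b ≠ 1 → ∀ y : P, y * b = b * y → y ∈ T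

namespace IsPair

variable {T B : Subgroup P}

omit [Finite P] in
theorem map (h : IsPair T B) (s : P) : IsPair (T.map (cj s)) (B.map (cj s)) where
  cardT := by rw [card_map_cj, h.cardT]
  cardB := by rw [card_map_cj, h.cardB]
  le := map_mono h.le
  comm := by
    rintro _ ⟨a, ha, rfl⟩ _ ⟨b, hb, rfl⟩
    rw [← map_mul, h.comm a ha b hb, map_mul]
  sq := by
    rintro _ ⟨a, ha, rfl⟩
    rw [← map_mul, h.sq a ha, map_one]
  cent := by
    rintro _ ⟨b, hb, rfl⟩ hb1 y hy
    refine ⟨s⁻¹ * y * s, h.cent b hb (fun e => hb1 (by rw [e, map_one])) _ ?_, by simp only [cj_apply]; group⟩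
    apply cj_injective s
    simp only [cj_apply] at hy ⊢
    calc s * (s⁻¹ * y * s * b) * s⁻¹ = y * (s * b * s⁻¹) := by group
      _ = (s * b * s⁻¹) * y := hy
      _ = _ := by group

theorem exists_mem (h : IsPair T B) {X : Subgroup P} (hXT : X ≤ T) (hX : 4 < Nat.card X) :
    ∃ b ∈ B, b ≠ 1 ∧ b ∈ X := by
  by_contra hno
  push Not at hno
  let m : X × B → T := fun xb => ⟨(xb.1 : P) * xb.2, mul_mem (hXT xb.1.2) (h.le xb.2.2)⟩
  have hm : Function.Injective m := by
    rintro ⟨x, b⟩ ⟨x', b'⟩ heq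
    have e : (x : P) * b = x' * b' := congrArg Subtype.val heq
    have e' : ((b : P) * (b' : P)⁻¹) = (x : P)⁻¹ * x' := by
      calc (b : P) * (b' : P)⁻¹ = (x : P)⁻¹ * ((x : P) * b) * (b' : P)⁻¹ := by group
        _ = _ := by rw [e]; group
    have h1 : (b : P) * (b' : P)⁻¹ = 1 := by
      by_contra hne
      exact hno _ (mul_mem b.2 (inv_mem b'.2)) hne (e' ▸ mul_mem (inv_mem x.2) x'.2)
    have hb : (b : P) = b' := mul_inv_eq_one.1 h1
    rw [hb] at e
    exact Prod.ext (Subtype.ext (mul_right_cancel e)) (Subtype.ext hb)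
  have h1 := Nat.card_le_card_of_injective m hm
  rw [Nat.card_prod, h.cardT, h.cardB] at h1
  omega

theorem le_of_commute (h : IsPair T B) {E : Subgroup P} (hab : ∀ a ∈ E, ∀ b ∈ E, a * b = b * a)
    (h5 : 4 < Nat.card ↥(E ⊓ T)) : E ≤ T := by
  obtain ⟨b, hb, hb1, hbE⟩ := h.exists_mem inf_le_right h5
  exact fun y hy => h.cent b hb hb1 y (hab y hy b hbE.1)

theorem bound (h : IsPair T B) {Q N : Subgroup P} (hNQ : N ≤ Q) (hn : ∀ q ∈ Q, ∀ n ∈ N, q * n * q⁻¹ ∈ N)
    (hsq : ∀ q ∈ Q, q * q ∈ N) (h5 : 4 < Nat.card ↥(Q ⊓ T)) : N.relIndex Q ≤ 16 := by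
  obtain ⟨b, hb, hb1, hbQ⟩ := h.exists_mem inf_le_right h5
  have h1 : T.relIndex Q ≤ Nat.card N := relIndex_le_card T Q N (b := b)
    (fun y hy => by
      have := comm_mem hn hsq (inv_mem hbQ.1) hy
      simpa [mul_assoc] using this)
    (fun y _ => h.cent b hb hb1 y)
  refine Nat.le_of_mul_le_mul_left (?_ : Nat.card N * _ ≤ Nat.card N * 16) Nat.card_pos
  rw [card_mul_relIndex hNQ, ← card_inf_mul_relIndex Q T, mul_comm]
  exact Nat.mul_le_mul h1 (h.cardT ▸ card_le_of_le inf_le_right)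

theorem relIndex_normalizer_le (h : IsPair T B) (hP : IsPGroup 2 P) :
    T.relIndex (normalizer (T : Set P)) ≤ 4 := by
  have : Fact (Nat.Prime 2) := ⟨Nat.prime_two⟩
  set R := normalizer (T : Set P)
  have hTR : T ≤ R := le_normalizer
  have hR := hP.to_subgroup R
  have : (T.subgroupOf R).Normal := Subgroup.normal_in_normalizer
  have hcT : Nat.card (T.subgroupOf R) = 16 := by
    rw [Nat.card_congr (subgroupOfEquivOfLe hTR).toEquiv, h.cardT]
  obtain ⟨M3, hn3, h3T, hM3⟩ := PGroups.exists_normal_card_le hR (T.subgroupOf R) 3 (by omega)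
  obtain ⟨M2, hn2, h23, hM2⟩ := PGroups.exists_normal_card_le hR M3 2 (by omega)
  have hidx : (M2.subgroupOf M3).index = 2 := by
    have := card_mul_relIndex h23
    rw [hM2, hM3, relIndex] at this
    omega
  obtain ⟨b, hb, hb1, hbX⟩ := h.exists_mem (X := M3.map R.subtype)
    (map_le_iff_le_comap.2 h3T) (by rw [card_map_of_injective R.subtype_injective, hM3]; norm_num)
  obtain ⟨b', hb', rfl⟩ := hbX
  refine le_trans (relIndex_le_card T R (M2.map R.subtype) (b := (b' : P)) (fun y hy => ?_)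
    (fun y _ => h.cent _ hb hb1 y)) (le_of_eq (by rw [card_map_of_injective R.subtype_injective, hM2]; norm_num))
  have hc : (⟨y, hy⟩ : R) * b' * ⟨y, hy⟩⁻¹ ∈ M3 := hn3.conj_mem b' hb' _
  have hiff : b'⁻¹ ∈ M2 ↔ (⟨y, hy⟩ : R) * b' * ⟨y, hy⟩⁻¹ ∈ M2 :=
    ⟨fun hm => hn2.conj_mem b' (by simpa using hm) _, fun hm => inv_mem (by
      have := hn2.conj_mem _ hm (⟨y, hy⟩ : R)⁻¹
      simpa [mul_assoc] using this)⟩
  have hmem := (mul_mem_iff_of_index_two hidx (a := ⟨b'⁻¹, inv_mem hb'⟩) (b := ⟨_, hc⟩)).2 hiff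
  exact ⟨_, hmem, rfl⟩

theorem mem_or_mem (h : IsPair T B) {T' : Subgroup P} (hab : ∀ a ∈ T', ∀ b ∈ T', a * b = b * a)
    (hsq' : ∀ a ∈ T', a * a = 1) (hI : 4 ≤ Nat.card ↥(T ⊓ T')) {t t' : P} (ht : t ∈ T) (ht' : t' ∈ T')
    (hx : t * t' * (t * t') = 1) : t * t' ∈ T ∨ t * t' ∈ T' := by
  by_cases h1 : t' ∈ T
  · exact Or.inl (mul_mem ht h1)
  have hinv : t' * t = t * t' := by
    calc t' * t = t'⁻¹ * t⁻¹ := by
          rw [inv_eq_of_mul_eq_one_right (h.sq t ht), inv_eq_of_mul_eq_one_right (hsq' t' ht')]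
      _ = (t * t')⁻¹ := by group
      _ = _ := inv_eq_of_mul_eq_one_right hx
  set X := T ⊓ centralizer ({t'} : Set P)
  have hIX : T ⊓ T' ≤ X := fun x hx => ⟨hx.1, mem_centralizer_singleton_iff.2 (hab x hx.2 t' ht')⟩
  rcases le_or_gt (Nat.card X) 4 with h4 | h4
  · have he := eq_of_le_of_card_ge hIX (h4.trans hI)
    have htX : t ∈ X := ⟨ht, mem_centralizer_singleton_iff.2 hinv.symm⟩
    rw [← he] at htX
    exact Or.inr (mul_mem htX.2 ht')
  · obtain ⟨b, hb, hb1, hbX⟩ := h.exists_mem inf_le_left h4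
    exact absurd (h.cent b hb hb1 t' (mem_centralizer_singleton_iff.1 hbX.2).symm) h1

theorem squareBound (h : IsPair T B) (hP : IsPGroup 2 P) : SquareBound P := by
  have : Fact (Nat.Prime 2) := ⟨Nat.prime_two⟩
  intro Q N hNQ hn hsq
  by_contra hbig
  push Not at hbig
  have hsmall : ∀ X C : Subgroup P, IsPair X C → Nat.card ↥(Q ⊓ X) ≤ 4 := by
    intro X C hX
    by_contra h5
    push Not at h5
    exact absurd (hX.bound hNQ hn hsq h5) (by omega)
  have hQN := card_mul_relIndex hNQ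
  have hN1 : 1 ≤ Nat.card N := Nat.card_pos
  have hQT := card_inf_mul_relIndex Q T
  have hQ4 := hsmall T B h
  set R := normalizer (T : Set P)
  have hTR : T ≤ R := le_normalizer
  have hR4 : T.relIndex R ≤ 4 := h.relIndex_normalizer_le hP
  by_cases hRtop : R = ⊤
  · have : T.relIndex Q ≤ 4 :=
      (relIndex_le_of_le_right (hRtop ▸ le_top : Q ≤ R) Subgroup.index_ne_zero_of_finite).trans hR4
    nlinarith
  obtain ⟨s, -, hsR, hs⟩ := PGroups.exists_mem_notMem_normalizer hP (lt_top_iff_ne_top.2 hRtop)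
  set T' := T.map (cj s)
  have h' : IsPair T' (B.map (cj s)) := h.map s
  have hT'R : T' ≤ R := by
    rintro _ ⟨t, ht, rfl⟩
    exact (mem_normalizer_iff.1 hs t).1 (hTR ht)
  have hne : T' ≠ T := fun e => hsR (mem_normalizer_of_map e)
  have hI4 : Nat.card ↥(T ⊓ T') ≤ 4 := by
    by_contra h5
    push Not at h5
    rw [inf_comm] at h5
    exact hne (eq_of_le_of_card_ge (h.le_of_commute h'.comm h5) (by rw [h.cardT, h'.cardT]))
  have hTT' : T.relIndex T' ≤ T.relIndex R :=
    relIndex_le_of_le_right hT'R Subgroup.index_ne_zero_of_finite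
  have hprod := card_inf_mul_relIndex T' T
  rw [inf_comm, h'.cardT] at hprod
  have hI : 4 ≤ Nat.card ↥(T ⊓ T') := by nlinarith
  have hrel : T.relIndex T' = T.relIndex R := by nlinarith
  have hdec : ∀ r ∈ R, ∃ t ∈ T, ∃ t' ∈ T', r = t * t' := by
    intro r hr
    obtain ⟨a, ha⟩ := ((Nat.bijective_iff_injective_and_card _).2
      ⟨(quotientSubgroupOfEmbeddingOfLE T hT'R).injective, hrel⟩).2 (QuotientGroup.mk ⟨r⁻¹, inv_mem hr⟩)
    induction a using QuotientGroup.induction_on with | _ a => ?_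
    rw [quotientSubgroupOfEmbeddingOfLE_apply_mk] at ha
    have hmem : (a : P)⁻¹ * r⁻¹ ∈ T := mem_subgroupOf.1 (QuotientGroup.eq.1 ha)
    exact ⟨_, inv_mem hmem, (a : P)⁻¹, inv_mem a.2, by group⟩
  have hinR : ∀ E : Subgroup P, E ≤ R → (∀ x ∈ E, x * x = 1) → E ≤ T ∨ E ≤ T' := by
    refine fun E hE hE2 => le_or_le fun x hx => ?_
    obtain ⟨t, ht, t', ht', rfl⟩ := hdec x (hE hx)
    exact h.mem_or_mem h'.comm h'.sq hI ht ht' (hE2 _ hx)
  set NR := normalizer (R : Set P)
  have hu : ∀ u ∈ NR, T.map (cj u) = T ∨ T.map (cj u) = T' := by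
    intro u hu
    have hle : T.map (cj u) ≤ R := by
      rintro _ ⟨t, ht, rfl⟩
      exact (mem_normalizer_iff.1 hu t).1 (hTR ht)
    rcases hinR _ hle (h.map u).sq with hE | hE
    · exact Or.inl (eq_of_le_of_card_ge hE (by rw [(h.map u).cardT, h.cardT]))
    · exact Or.inr (eq_of_le_of_card_ge hE (by rw [(h.map u).cardT, h'.cardT]))
  have hR2 : R.relIndex NR ≤ 2 := by
    let m : ↥NR ⧸ R.subgroupOf NR → ({T, T'} : Set (Subgroup P)) := fun a =>
      ⟨T.map (cj (a.out : P)), hu _ a.out.2⟩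
    have hm : Function.Injective m := by
      intro a a' e
      rw [← QuotientGroup.out_eq' a, ← QuotientGroup.out_eq' a']
      refine QuotientGroup.eq.2 (mem_subgroupOf.2 (mem_normalizer_of_map ?_))
      have e' : T.map (cj (a.out : P)) = T.map (cj (a'.out : P)) := congrArg Subtype.val e
      simp only [Subgroup.coe_mul, InvMemClass.coe_inv]
      rw [← map_cj_cj, ← e', map_cj_cj, inv_mul_cancel, map_cj_one]
    refine (Nat.card_le_card_of_injective m hm).trans ?_
    rw [Nat.card_coe_set_eq, Set.ncard_pair hne.symm]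
  have hNR : NR = ⊤ := by
    by_contra hne'
    obtain ⟨w, -, hwn, hw⟩ := PGroups.exists_mem_notMem_normalizer hP (lt_top_iff_ne_top.2 hne')
    have key : ∀ X C : Subgroup P, IsPair X C → X ≤ NR → X ≤ R := by
      intro X C hX hXN
      have hrel2 : R.relIndex X ≤ 2 :=
        (relIndex_le_of_le_right hXN Subgroup.index_ne_zero_of_finite).trans hR2
      have hp := card_inf_mul_relIndex X R
      rw [hX.cardT] at hp
      have h8 : 4 < Nat.card ↥(X ⊓ R) := by nlinarith
      rcases hinR (X ⊓ R) inf_le_right (fun x hx => hX.sq x hx.1) with hE | hE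
      · exact (h.le_of_commute hX.comm (h8.trans_le (card_le_of_le (le_inf inf_le_left hE)))).trans hTR
      · exact (h'.le_of_commute hX.comm (h8.trans_le (card_le_of_le (le_inf inf_le_left hE)))).trans hT'R
    have hconj : ∀ X : Subgroup P, X ≤ NR → X.map (cj w) ≤ NR := by
      rintro X hX _ ⟨x, hx, rfl⟩
      exact (mem_normalizer_iff.1 hw x).1 (hX hx)
    have h1 := key _ _ (h.map w) (hconj T (hTR.trans le_normalizer))
    have h2 := key _ _ (h'.map w) (hconj T' (hT'R.trans le_normalizer))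
    have hmap : R.map (cj w) ≤ R := by
      rintro _ ⟨r, hr, rfl⟩
      obtain ⟨t, ht, t', ht', rfl⟩ := hdec r hr
      rw [map_mul]
      exact mul_mem (h1 (mem_map_of_mem _ ht)) (h2 (mem_map_of_mem _ ht'))
    exact hwn (mem_normalizer_of_map (eq_of_le_of_card_ge hmap (card_map_cj R w).ge))
  have hR2Q : R.relIndex Q ≤ 2 :=
    (relIndex_le_of_le_right (hNR ▸ le_top : Q ≤ NR) Subgroup.index_ne_zero_of_finite).trans hR2
  have hQR := card_inf_mul_relIndex Q R
  have h8 : T.relIndex Q ≤ 8 := by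
    have hTi : T.index ≤ 8 := by
      rw [← relIndex_mul_index hTR]
      have hRi : R.index ≤ 2 := by rwa [← relIndex_top_right, ← hNR]
      calc T.relIndex R * R.index ≤ 4 * 2 := Nat.mul_le_mul hR4 hRi
        _ = 8 := rfl
    refine le_trans (relIndex_le_of_le_right (le_top : Q ≤ ⊤) Subgroup.index_ne_zero_of_finite) ?_
    rwa [relIndex_top_right]
  have hQ32 : Nat.card Q ≤ 32 := by rw [← hQT]; exact Nat.mul_le_mul hQ4 h8
  have hNbot : N = ⊥ := eq_bot_of_card_le N (by nlinarith)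
  have hQ2 : ∀ q ∈ Q, q * q = 1 := fun q hq => by have := hsq q hq; rwa [hNbot, mem_bot] at this
  have hE9 : 4 < Nat.card ↥(Q ⊓ R) := by nlinarith
  rcases hinR (Q ⊓ R) inf_le_right (fun x hx => hQ2 x hx.1) with hE | hE
  · have := card_le_of_le (le_inf inf_le_left hE : Q ⊓ R ≤ Q ⊓ T)
    omega
  · have := card_le_of_le (le_inf inf_le_left hE : Q ⊓ R ≤ Q ⊓ T')
    have := hsmall T' _ h'
    omega

end IsPair

/-! ### The nonabelian case and the conclusion -/

theorem eq_of_mem_zpowers {c a b : P} (ha : a ∈ zpowers c) (hb : b ∈ zpowers c) (ha2 : a * a = 1)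
    (hb2 : b * b = 1) (ha1 : a ≠ 1) (hb1 : b ≠ 1) : a = b := by
  classical
  have : Fintype (zpowers c) := Fintype.ofFinite _
  have h := IsCyclic.card_pow_eq_one_le (α := zpowers c) (n := 2) two_pos
  by_contra hne
  have hsub : ({1, ⟨a, ha⟩, ⟨b, hb⟩} : Finset (zpowers c)) ⊆
      Finset.univ.filter fun x => x ^ 2 = 1 := by
    intro x hx
    simp only [Finset.mem_insert, Finset.mem_singleton] at hx
    refine Finset.mem_filter.2 ⟨Finset.mem_univ _, ?_⟩
    rcases hx with rfl | rfl | rfl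
    · simp
    · exact Subtype.ext (by simpa [pow_two] using ha2)
    · exact Subtype.ext (by simpa [pow_two] using hb2)
  have h3 := (Finset.card_le_card hsub).trans h
  rw [Finset.card_insert_of_notMem (by simp [Subtype.ext_iff, Ne.symm ha1, Ne.symm hb1]),
    Finset.card_pair (by simpa [Subtype.ext_iff] using hne)] at h3
  omega

/-- `T = D × B` with `B` a four-group whose involutions have centralizer `T` and `D` either a four-group or
nonabelian with a cyclic subgroup of index two bounds the elementary sections by 16. -/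
theorem squareBound_product (hP : IsPGroup 2 P) (T D B : Subgroup P) (hDT : D ≤ T) (hBT : B ≤ T)
    (hTB : ∀ t ∈ T, ∀ b ∈ B, t * b = b * t) (hDB : D ⊓ B = ⊥)
    (hdec : ∀ t ∈ T, ∃ d ∈ D, ∃ b ∈ B, t = d * b) (hB4 : Nat.card B = 4) (hB2 : ∀ b ∈ B, b * b = 1)
    (hC : ∀ b ∈ B, b ≠ 1 → ∀ y : P, y * b = b * y → y ∈ T)
    (hD : (Nat.card D = 4 ∧ (∀ d ∈ D, d * d = 1)) ∨
      (∃ c ∈ D, (zpowers c).relIndex D = 2 ∧ ¬ ∀ a ∈ D, ∀ b ∈ D, a * b = b * a)) : SquareBound P := by
  have : Fact (Nat.Prime 2) := ⟨Nat.prime_two⟩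
  have hcardT : Nat.card T = Nat.card D * Nat.card B := by
    let m : D × B → T := fun db => ⟨(db.1 : P) * db.2, mul_mem (hDT db.1.2) (hBT db.2.2)⟩
    rw [← Nat.card_prod]
    refine (Nat.card_eq_of_bijective m ⟨?_, ?_⟩).symm
    · rintro ⟨d, b⟩ ⟨d', b'⟩ heq
      have e : (d : P) * b = d' * b' := congrArg Subtype.val heq
      have e' : (d' : P)⁻¹ * d = b' * (b : P)⁻¹ := by
        calc (d' : P)⁻¹ * d = (d' : P)⁻¹ * ((d : P) * b) * (b : P)⁻¹ := by group
          _ = _ := by rw [e]; group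
      have h1 : (d' : P)⁻¹ * d ∈ D ⊓ B :=
        mem_inf.2 ⟨mul_mem (inv_mem d'.2) d.2, e' ▸ mul_mem b'.2 (inv_mem b.2)⟩
      rw [hDB, mem_bot] at h1
      have hd : (d : P) = d' := (inv_mul_eq_one.1 h1).symm
      rw [hd] at e
      exact Prod.ext (Subtype.ext hd) (Subtype.ext (mul_left_cancel e))
    · rintro ⟨t, ht⟩
      obtain ⟨d, hd, b, hb, rfl⟩ := hdec t ht
      exact ⟨(⟨d, hd⟩, ⟨b, hb⟩), rfl⟩
  rcases hD with ⟨hD4, hD2⟩ | ⟨c, hc, hcI, hna⟩
  · have hDab : ∀ a ∈ D, ∀ b ∈ D, a * b = b * a := by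
      intro a ha b hb
      calc a * b = (a * b)⁻¹ := (inv_eq_of_mul_eq_one_right (hD2 _ (mul_mem ha hb))).symm
        _ = b⁻¹ * a⁻¹ := mul_inv_rev a b
        _ = b * a := by rw [inv_eq_of_mul_eq_one_right (hD2 a ha), inv_eq_of_mul_eq_one_right (hD2 b hb)]
    refine IsPair.squareBound (T := T) (B := B) ⟨by rw [hcardT, hD4, hB4], hB4, hBT, ?_, ?_, hC⟩ hP
    · intro a ha a' ha'
      obtain ⟨d, hd, b, hb, rfl⟩ := hdec a ha
      obtain ⟨d', hd', b', hb', rfl⟩ := hdec a' ha'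
      have e1 := hTB _ (hDT hd') b hb
      have e2 := hTB _ (hDT hd) b' hb'
      have e3 := hTB _ (hBT hb) b' hb'
      calc d * b * (d' * b') = d * (b * d') * b' := by group
        _ = d * (d' * b) * b' := by rw [e1]
        _ = d * d' * (b * b') := by group
        _ = d' * d * (b' * b) := by rw [hDab d hd d' hd', e3]
        _ = d' * (d * b') * b := by group
        _ = _ := by rw [e2]; group
    · intro a ha
      obtain ⟨d, hd, b, hb, rfl⟩ := hdec a ha
      calc d * b * (d * b) = d * (b * d) * b := by group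
        _ = d * d * (b * b) := by rw [← hTB d (hDT hd) b hb]; group
        _ = 1 := by rw [hD2 d hd, hB2 b hb, mul_one]
  -- nonabelian `D`
  set C := zpowers c
  have hCD : C ≤ D := zpowers_le.2 hc
  have hcen : ∀ d ∈ D, (∀ a ∈ D, a * d = d * a) → d ∈ C := by
    intro d hd hdc
    by_contra hdC
    have hmem : ∀ e ∈ D, ∃ u ∈ C, e = u ∨ e = u * d := by
      intro e he
      by_cases heC : e ∈ C
      · exact ⟨e, heC, Or.inl rfl⟩
      · refine ⟨e * d⁻¹, ?_, Or.inr (by group)⟩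
        have h := (mul_mem_iff_of_index_two hcI (a := (⟨e, he⟩ : D)) (b := ⟨d⁻¹, inv_mem hd⟩)).2
          (iff_of_false heC (fun h => hdC (inv_mem_iff.1 (mem_subgroupOf.1 h))))
        exact h
    refine hna fun a ha b hb => ?_
    obtain ⟨u, hu, hau⟩ := hmem a ha
    obtain ⟨v, hv, hbv⟩ := hmem b hb
    have huv : u * v = v * u := by
      obtain ⟨i, rfl⟩ := mem_zpowers_iff.1 hu
      obtain ⟨j, rfl⟩ := mem_zpowers_iff.1 hv
      exact zpow_mul_comm c i j
    have hud : Commute u d := hdc u (hCD hu)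
    have hvd : Commute v d := hdc v (hCD hv)
    have huv' : Commute u v := huv
    rcases hau with rfl | rfl <;> rcases hbv with rfl | rfl
    · exact huv'.eq
    · exact (huv'.mul_right hud).eq
    · exact (huv'.mul_left hvd.symm).eq
    · exact ((huv'.mul_right hud).mul_left (hvd.symm.mul_right (Commute.refl d))).eq
  set R := normalizer (T : Set P)
  have hTR : T ≤ R := le_normalizer
  have hRT : ∀ r ∈ R, ∀ w ∈ T, r * w * r⁻¹ ∈ T := fun r hr w hw => (mem_normalizer_iff.1 hr w).1 hw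
  -- the commutator subgroup of T gives an involution of `D` central in `R`
  have hWD : ⁅T, T⁆ ≤ D := by
    refine commutator_le.2 fun a ha a' ha' => ?_
    obtain ⟨d, hd, b, hb, rfl⟩ := hdec a ha
    obtain ⟨d', hd', b', hb', rfl⟩ := hdec a' ha'
    have h1 : Commute d b := hTB _ (hDT hd) b hb
    have h2 : Commute d b' := hTB _ (hDT hd) b' hb'
    have h3 : Commute d' b := hTB _ (hDT hd') b hb
    have h4 : Commute d' b' := hTB _ (hDT hd') b' hb'
    have h5 : Commute b b' := hTB _ (hBT hb) b' hb'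
    have e : d * b * (d' * b') * (d * b)⁻¹ * (d' * b')⁻¹ = d * d' * d⁻¹ * d'⁻¹ := by
      have f1 : d * b * (d' * b') = d * d' * (b * b') := h3.symm.mul_mul_mul_comm d b'
      have f2 : (d * b)⁻¹ * (d' * b')⁻¹ = b⁻¹ * b'⁻¹ * (d⁻¹ * d'⁻¹) := by
        rw [← mul_inv_rev, ← mul_inv_rev, ← mul_inv_rev, ← mul_inv_rev]
        congr 1
        calc d' * b' * (d * b) = d' * d * (b' * b) := h2.symm.mul_mul_mul_comm d' b
          _ = _ := rfl
      calc d * b * (d' * b') * (d * b)⁻¹ * (d' * b')⁻¹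
          = d * b * (d' * b') * ((d * b)⁻¹ * (d' * b')⁻¹) := by group
        _ = d * d' * ((b * b') * (b⁻¹ * b'⁻¹)) * (d⁻¹ * d'⁻¹) := by rw [f1, f2]; group
        _ = _ := by rw [h5.eq]; group
    rw [commutatorElement_def, e]
    exact mul_mem (mul_mem (mul_mem hd hd') (inv_mem hd)) (inv_mem hd')
  have hWn : ∀ r ∈ R, ∀ w ∈ ⁅T, T⁆, r * w * r⁻¹ ∈ ⁅T, T⁆ := by
    intro r hr w hw
    have hle : T.map (cj r) ≤ T := by rintro _ ⟨t, ht, rfl⟩; exact hRT r hr t ht
    have := mem_map_of_mem (cj r) hw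
    rw [map_commutator] at this
    exact commutator_mono hle hle this
  have hWne : ¬ ⁅T, T⁆ ≤ ⊥ := by
    intro h
    refine hna fun a ha b hb => ?_
    have := h (commutator_mem_commutator (hDT ha) (hDT hb))
    rw [mem_bot] at this
    exact commutatorElement_eq_one_iff_mul_comm.1 this
  obtain ⟨z, hz, hz1, hz2, hzc⟩ := exists_central_mod hP R ⊥ ⁅T, T⁆ ((hWD.trans hDT).trans hTR)
    (fun r _ f hf => by rw [mem_bot] at hf ⊢; simp [hf]) hWn hWne
  rw [mem_bot] at hz1 hz2
  have hzR : ∀ r ∈ R, r * z = z * r := by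
    intro r hr
    have := hzc r hr
    rw [mem_bot, inv_mul_eq_one] at this
    exact mul_inv_eq_iff_eq_mul.1 this.symm
  have hzD : z ∈ D := hWD hz
  have hzC : z ∈ C := hcen z hzD fun a ha => hzR a (hTR (hDT ha))
  let V : Subgroup P :=
    { carrier := {w | w ∈ T ∧ w * w = 1 ∧ ∀ t ∈ T, t * w = w * t}
      one_mem' := ⟨one_mem _, one_mul 1, fun t _ => by rw [mul_one, one_mul]⟩
      mul_mem' := by
        rintro a b ⟨ha, ha2, hac⟩ ⟨hb, hb2, hbc⟩
        refine ⟨mul_mem ha hb, ?_, fun t ht => (Commute.mul_right (hac t ht) (hbc t ht)).eq⟩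
        calc a * b * (a * b) = a * (b * a) * b := by group
          _ = a * a * (b * b) := by rw [hac b hb]; group
          _ = 1 := by rw [ha2, hb2, mul_one]
      inv_mem' := by
        rintro a ⟨ha, ha2, hac⟩
        have : a⁻¹ = a := inv_eq_of_mul_eq_one_right ha2
        rw [this]
        exact ⟨ha, ha2, hac⟩ }
  have hBV : B ≤ V := fun b hb => ⟨hBT hb, hB2 b hb, fun t ht => hTB t ht b hb⟩
  have hVdec : ∀ w ∈ V, ∃ b ∈ B, w = b ∨ w = z * b := by
    rintro w ⟨hw, hw2, hwc⟩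
    obtain ⟨d, hd, b, hb, rfl⟩ := hdec w hw
    refine ⟨b, hb, ?_⟩
    have hd2 : d * d = 1 := by
      calc d * d = d * b * (d * b) * (b * b)⁻¹ := by
            rw [show d * b * (d * b) = d * (b * d) * b by group, ← hTB d (hDT hd) b hb]; group
        _ = 1 := by rw [hw2, hB2 b hb]; group
    by_cases hd1 : d = 1
    · exact Or.inl (by rw [hd1, one_mul])
    · refine Or.inr ?_
      have hdcen : ∀ a ∈ D, a * d = d * a := by
        intro a ha
        have h := hwc a (hDT ha)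
        refine mul_right_cancel (b := b) ?_
        calc a * d * b = a * (d * b) := by group
          _ = d * b * a := h
          _ = d * (b * a) := by group
          _ = d * a * b := by rw [← hTB a (hDT ha) b hb]; group
      rw [eq_of_mem_zpowers (hcen d hd hdcen) hzC hd2 hz2 hd1 hz1]
  have hVn : ∀ r ∈ R, ∀ w ∈ V, r * w * r⁻¹ ∈ V := by
    rintro r hr w ⟨hw, hw2, hwc⟩
    refine ⟨hRT r hr w hw, ?_, fun t ht => ?_⟩
    · calc r * w * r⁻¹ * (r * w * r⁻¹) = r * (w * w) * r⁻¹ := by group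
        _ = 1 := by rw [hw2]; group
    · have ht' : r⁻¹ * t * r ∈ T := by simpa using hRT r⁻¹ (inv_mem hr) t ht
      calc t * (r * w * r⁻¹) = r * ((r⁻¹ * t * r) * w) * r⁻¹ := by group
        _ = r * (w * (r⁻¹ * t * r)) * r⁻¹ := by rw [hwc _ ht']
        _ = _ := by group
  have hRle : R ≤ T := by
    intro s hs
    by_contra hsT
    have hne : ¬ V ≤ zpowers z := by
      intro h
      have h1 := card_le_of_le (hBV.trans h)
      rw [hB4, Nat.card_zpowers, orderOf_eq_prime (p := 2) (by rw [pow_two]; exact hz2) hz1] at h1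
      omega
    obtain ⟨w, hw, hwz, -, hwc⟩ := exists_central_mod hP R (zpowers z) V (fun v hv => hTR hv.1)
      (fun r hr f hf => by
        obtain ⟨i, rfl⟩ := mem_zpowers_iff.1 hf
        rw [((show Commute r z from hzR r hr).zpow_right i).eq, mul_inv_cancel_right]
        exact zpow_mem_zpowers z i)
      hVn hne
    obtain ⟨b₁, hb₁, hwb⟩ := hVdec w hw
    have hb₁1 : b₁ ≠ 1 := by
      rintro rfl
      rcases hwb with rfl | rfl
      · exact hwz (one_mem _)
      · exact hwz (by rw [mul_one]; exact mem_zpowers z)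
    have hzpow : ∀ u ∈ zpowers z, u = 1 ∨ u = z := by
      intro u hu
      by_cases hu1 : u = 1
      · exact Or.inl hu1
      · refine Or.inr (eq_of_mem_zpowers hu (mem_zpowers z) ?_ hz2 hu1 hz1)
        obtain ⟨i, rfl⟩ := mem_zpowers_iff.1 hu
        rw [← (Commute.refl z).mul_zpow, hz2, one_zpow]
    have hfix : ∀ b ∈ B, b ≠ 1 → s * b * s⁻¹ ≠ b := fun b hb hb1 e =>
      hsT (hC b hb hb1 s (mul_inv_eq_iff_eq_mul.1 e))
    have hzs : Commute s z := hzR s hs
    have hzb : ∀ b ∈ B, Commute z b := fun b hb => hTB z (hDT hzD) b hb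
    have hsb₁ : s * b₁ * s⁻¹ = z * b₁ := by
      have h := hwc s hs
      have h' : b₁⁻¹ * (s * b₁ * s⁻¹) ∈ zpowers z := by
        rcases hwb with rfl | rfl
        · exact h
        · have e : b₁⁻¹ * (s * b₁ * s⁻¹) = (z * b₁)⁻¹ * (s * (z * b₁) * s⁻¹) := by
            calc b₁⁻¹ * (s * b₁ * s⁻¹) = b₁⁻¹ * z⁻¹ * (z * s) * b₁ * s⁻¹ := by group
              _ = _ := by rw [← hzs.eq]; group
          exact e ▸ h
      rcases hzpow _ h' with h1 | h1
      · exact absurd (inv_mul_eq_one.1 h1).symm (hfix b₁ hb₁ hb₁1)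
      · rw [inv_mul_eq_iff_eq_mul] at h1
        rw [h1, (hzb b₁ hb₁).eq]
    have hs2 : s * s ∈ T := by
      refine hC b₁ hb₁ hb₁1 _ (mul_inv_eq_iff_eq_mul.1 ?_)
      calc s * s * b₁ * (s * s)⁻¹ = s * (s * b₁ * s⁻¹) * s⁻¹ := by group
        _ = s * (z * b₁) * s⁻¹ := congrArg (fun x => s * x * s⁻¹) hsb₁
        _ = s * z * s⁻¹ * (s * b₁ * s⁻¹) := by group
        _ = z * (z * b₁) := by rw [hzs.eq, hsb₁]; group
        _ = b₁ := by rw [← mul_assoc, hz2, one_mul]
    have hmove : ∀ b ∈ B, b ≠ 1 → s * b * s⁻¹ = z * b := by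
      intro b hb hb1
      have hmem := hVn s hs b (hBV hb)
      have hx : s * b * s⁻¹ * b ∈ V := mul_mem hmem (hBV hb)
      have hsx : s * (s * b * s⁻¹ * b) * s⁻¹ = s * b * s⁻¹ * b := by
        calc s * (s * b * s⁻¹ * b) * s⁻¹ = s * s * b * (s * s)⁻¹ * (s * b * s⁻¹) := by group
          _ = b * (s * b * s⁻¹) := by rw [hTB _ hs2 b hb, mul_inv_cancel_right]
          _ = _ := hmem.2.2 b (hBT hb)
      have hbi : b⁻¹ = b := inv_eq_of_mul_eq_one_right (hB2 b hb)
      obtain ⟨b', hb', hxb⟩ := hVdec _ hx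
      by_cases hb'1 : b' = 1
      · rw [hb'1, mul_one] at hxb
        rcases hxb with h1 | h1
        · exact absurd ((eq_inv_of_mul_eq_one_left h1).trans hbi) (hfix b hb hb1)
        · rw [← h1, mul_assoc (s * b * s⁻¹), hB2 b hb, mul_one]
      · refine absurd ?_ (hfix b' hb' hb'1)
        rcases hxb with h1 | h1
        · rw [h1] at hsx
          exact hsx
        · rw [h1] at hsx
          refine mul_left_cancel (a := z) ?_
          calc z * (s * b' * s⁻¹) = s * z * s⁻¹ * (s * b' * s⁻¹) := by rw [hzs.eq]; group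
            _ = s * (z * b') * s⁻¹ := by group
            _ = z * b' := hsx
    obtain ⟨b₂, hb₂, hb₂1, hb₂₁⟩ : ∃ b ∈ B, b ≠ 1 ∧ b ≠ b₁ := by
      by_contra h
      push Not at h
      have hle : B ≤ zpowers b₁ := fun b hb => by
        by_cases hb1 : b = 1
        · exact hb1 ▸ one_mem _
        · exact h b hb hb1 ▸ mem_zpowers b₁
      have h1 := card_le_of_le hle
      rw [hB4, Nat.card_zpowers, orderOf_eq_prime (p := 2) (by rw [pow_two]; exact hB2 b₁ hb₁) hb₁1] at h1
      omega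
    have h12 : b₁ * b₂ ≠ 1 := fun e => hb₂₁ (by
      rw [← inv_eq_of_mul_eq_one_right e, inv_eq_of_mul_eq_one_right (hB2 b₁ hb₁)])
    refine hfix _ (mul_mem hb₁ hb₂) h12 ?_
    calc s * (b₁ * b₂) * s⁻¹ = s * b₁ * s⁻¹ * (s * b₂ * s⁻¹) := by group
      _ = z * b₁ * (z * b₂) := by rw [hsb₁, hmove b₂ hb₂ hb₂1]
      _ = z * (b₁ * z) * b₂ := by group
      _ = z * z * (b₁ * b₂) := by rw [← (hzb b₁ hb₁).eq]; group
      _ = b₁ * b₂ := by rw [hz2, one_mul]
  have hTtop : T = ⊤ := by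
    by_contra hne
    obtain ⟨x, -, hx, hxn⟩ := PGroups.exists_mem_notMem_normalizer hP (lt_top_iff_ne_top.2 hne)
    exact hx (hRle hxn)
  refine squareBound_of_cyclic (c := c) ?_
  have h1 := card_mul_relIndex hCD
  have h2 := card_mul_index C
  rw [← Subgroup.card_top (G := P), ← hTtop, hcardT, hB4, ← h1, hcI, mul_assoc] at h2
  exact le_of_eq (Nat.eq_of_mul_eq_mul_left Nat.card_pos h2)

end Cfsg.Agent.H64.RankFour
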