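import Mathlib
import Cfsg.Agent.S0016

/-!
Generators of a nonabelian finite 2-group with a unique involution.
-/

set_option autoImplicit false

namespace Cfsg.Agent.H64

open Subgroup

/-- A nonabelian 2-group with exactly one involution is generated by `a` of order `2^k`, `k ≥ 2`, and
`b` inverting `a` with `b^2 = a^(2^(k-1))`. -/
theorem exists_quaternion_gens {Q : Type*} [Group Q] [Finite Q] (hQ : IsPGroup 2 Q)
    (hna : ¬ IsMulCommutative Q) (hu : ∃! x : Q, orderOf x = 2) :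
    ∃ (k : ℕ) (a b : Q), 2 ≤ k ∧ orderOf a = 2 ^ k ∧ b ∉ zpowers a ∧ b * a * b⁻¹ = a⁻¹ ∧
      b ^ 2 = a ^ 2 ^ (k - 1) ∧ ∀ q : Q, ∃ i : ℕ, q = a ^ i ∨ q = b * a ^ i := by
  have : Fact (Nat.Prime 2) := ⟨Nat.prime_two⟩
  obtain ⟨w, hw, huniq⟩ := hu
  have h1 : ∀ A B : Subgroup Q, Nat.card A = 2 → Nat.card B = 2 → A = B := by
    have key : ∀ A : Subgroup Q, Nat.card A = 2 → A = zpowers w := by
      intro A hA
      obtain ⟨x, hx⟩ := exists_prime_orderOf_dvd_card' (G := A) 2 (by rw [hA])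
      have : (x : Q) = w := huniq _ (by show orderOf (x : Q) = 2; rw [Subgroup.orderOf_coe]; exact hx)
      refine (Subgroup.eq_of_le_of_card_ge (zpowers_le.2 (this ▸ x.2)) ?_).symm
      rw [hA, Nat.card_zpowers, hw]
    exact fun A B hA hB => (key A hA).trans (key B hB).symm
  rcases Cfsg.Agent.S0016.result 2 hQ h1 with hc | ⟨-, l, ⟨e⟩⟩
  · exfalso
    obtain ⟨g, hg⟩ := hc.exists_generator
    refine hna ⟨⟨fun x y => ?_⟩⟩
    obtain ⟨i, rfl⟩ := Subgroup.mem_zpowers_iff.1 (hg x)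
    obtain ⟨j, rfl⟩ := Subgroup.mem_zpowers_iff.1 (hg y)
    exact zpow_mul_comm g i j
  · have : NeZero (2 ^ l) := ⟨by positivity⟩
    have : NeZero (2 * 2 ^ l) := ⟨by positivity⟩
    set A : QuaternionGroup (2 ^ l) := QuaternionGroup.a 1
    set B : QuaternionGroup (2 ^ l) := QuaternionGroup.xa 0
    have hgen : ∀ q : QuaternionGroup (2 ^ l), ∃ i : ℕ, q = A ^ i ∨ q = B * A ^ i := by
      rintro (i | i)
      · exact ⟨i.val, Or.inl (by simp [A, QuaternionGroup.a_one_pow])⟩
      · exact ⟨i.val, Or.inr (by simp [A, B, QuaternionGroup.a_one_pow])⟩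
    have hl : 1 ≤ l := by
      by_contra h
      obtain rfl : l = 0 := by omega
      apply hna
      refine ⟨⟨fun x y => e.injective ?_⟩⟩
      rw [map_mul, map_mul]
      have hall : ∀ u v : QuaternionGroup (2 ^ 0), u * v = v * u := by decide
      exact hall _ _
    refine ⟨l + 1, e.symm A, e.symm B, by omega, ?_, ?_, ?_, ?_, ?_⟩
    · rw [MulEquiv.orderOf_eq, QuaternionGroup.orderOf_a_one, pow_succ']
    · intro h
      obtain ⟨j, hj⟩ := Subgroup.mem_zpowers_iff.1 h
      rw [← map_zpow] at hj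
      have h' := e.symm.injective hj
      have hmem : B ∈ zpowers A := ⟨j, h'⟩
      rw [← mem_powers_iff_mem_zpowers] at hmem
      obtain ⟨m, hm⟩ := hmem
      simp [A, B, QuaternionGroup.a_one_pow] at hm
    · apply e.injective
      simp only [map_mul, map_inv, MulEquiv.apply_symm_apply]
      rw [mul_inv_eq_iff_eq_mul, eq_inv_mul_iff_mul_eq]
      simp [A, B]
    · apply e.injective
      simp only [map_pow, MulEquiv.apply_symm_apply, Nat.add_sub_cancel]
      simp [A, B, QuaternionGroup.a_one_pow, pow_two]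
    · intro q
      obtain ⟨i, hi | hi⟩ := hgen (e q)
      · exact ⟨i, Or.inl (by rw [← map_pow, ← hi, e.symm_apply_apply])⟩
      · exact ⟨i, Or.inr (by rw [← map_pow, ← map_mul, ← hi, e.symm_apply_apply])⟩

end Cfsg.Agent.H64
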