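import Mathlib
import Cfsg.Agent.H34.Klein
import Cfsg.Agent.H56.OutPSL
import Cfsg.Agent.H27.QuaternionSylow
import Cfsg.Agent.Linear.Order
import Cfsg.Agent.H27.LowRank

/-!
Four-groups in PSL₂ of odd order field and the 2-power order automorphisms centralising them.
-/

set_option autoImplicit false

namespace Cfsg.Agent.H64.PSLFour

open Matrix

variable {F : Type*} [Field F]

local notation "M2" => Matrix (Fin 2) (Fin 2) F
local notation "S2" => Matrix.SpecialLinearGroup (Fin 2) F
local notation "P2" => Matrix.ProjectiveSpecialLinearGroup (Fin 2) F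

/-- A matrix commuting with an anticommuting pair of square roots of -1 is scalar. -/
theorem scalar_of_commute_pair (h2 : (2 : F) ≠ 0) {X Y : S2} (hp : H34.IsPair X Y) {h : GL (Fin 2) F}
    (hX : (h : M2) * (X : M2) = (X : M2) * h) (hY : (h : M2) * (Y : M2) = (Y : M2) * h) :
    ∃ c : Fˣ, h = Matrix.GeneralLinearGroup.scalar (Fin 2) c := by
  have hXX : (X : M2) * (X : M2) = -1 := by
    have := congrArg (fun a : S2 => (a : M2)) hp.1
    simpa using this
  have hXY : (X : M2) * (Y : M2) = -((Y : M2) * (X : M2)) := by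
    have := congrArg (fun a : S2 => (a : M2)) hp.2.2
    simpa using this
  have htX : (X : M2).trace = 0 := (H34.trace_zero_of_sq h2 hp.1).1
  rw [Matrix.trace_fin_two] at htX
  set N : M2 := (2 : F) • (h : M2) - (h : M2).trace • 1 with hN
  have hNX : N * (X : M2) = (X : M2) * N := by
    simp only [hN, sub_mul, mul_sub, smul_mul_assoc, mul_smul_comm, one_mul, mul_one, hX]
  have hNY : N * (Y : M2) = (Y : M2) * N := by
    simp only [hN, sub_mul, mul_sub, smul_mul_assoc, mul_smul_comm, one_mul, mul_one, hY]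
  have hid : N * (X : M2) + (X : M2) * N = (N * (X : M2)).trace • (1 : M2) := by
    have hx11 : (X : M2) 1 1 = -(X : M2) 0 0 := by linear_combination htX
    ext i j
    fin_cases i <;> fin_cases j <;>
      simp [hN, Matrix.mul_apply, Fin.sum_univ_two, Matrix.trace_fin_two, hx11] <;> ring
  rw [← hNX, ← two_smul F] at hid
  set s := (N * (X : M2)).trace
  have hN' : (2 : F) • N = -(s • (X : M2)) := by
    have h1 := congrArg (· * (X : M2)) hid
    simp only [smul_mul_assoc, mul_assoc, hXX, one_mul, mul_neg, mul_one, smul_neg] at h1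
    rw [← h1, neg_neg]
  have hs : s = 0 := by
    have h1 : -(s • (X : M2)) * (Y : M2) = (Y : M2) * -(s • (X : M2)) := by
      rw [← hN', smul_mul_assoc, mul_smul_comm, hNY]
    simp only [neg_mul, mul_neg, smul_mul_assoc, mul_smul_comm, hXY, smul_neg, neg_neg] at h1
    have h3 : ((2 : F) * s) • ((Y : M2) * (X : M2)) = 0 := by
      rw [mul_smul, two_smul]
      exact add_eq_zero_iff_eq_neg.2 h1
    have hne : (Y : M2) * (X : M2) ≠ 0 := fun h0 => by
      have := congrArg Matrix.det h0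
      simp at this
    rcases smul_eq_zero.1 h3 with h4 | h4
    · exact (mul_eq_zero.1 h4).resolve_left h2
    · exact absurd h4 hne
  rw [hs, zero_smul, neg_zero] at hN'
  have hN0 : N = 0 := (smul_eq_zero.1 hN').resolve_left h2
  have hh : (h : M2) = ((2 : F)⁻¹ * (h : M2).trace) • (1 : M2) := by
    rw [mul_smul, ← sub_eq_zero.1 (hN.symm.trans hN0), smul_smul, inv_mul_cancel₀ h2, one_smul]
  have hc : (2 : F)⁻¹ * (h : M2).trace ≠ 0 := by
    intro h0
    rw [h0, zero_smul] at hh
    exact h.isUnit.ne_zero hh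
  refine ⟨Units.mk0 _ hc, Units.ext ?_⟩
  rw [Matrix.GeneralLinearGroup.coe_scalar, Units.val_mk0]
  refine hh.trans ?_
  ext i j
  fin_cases i <;> fin_cases j <;> simp

theorem semiAut_fix_iff [Fintype F] (g : GL (Fin 2) F) {X : S2}
    (h : H56.semiAut g (RingEquiv.refl F) (X : P2) = (X : P2)) :
    (g : M2) * (X : M2) = (X : M2) * g ∨ (g : M2) * (X : M2) = -((X : M2) * g) := by
  have e : H56.semiAut g (RingEquiv.refl F) (X : P2) = ((H56.semiSL g (RingEquiv.refl F) X : S2) : P2) := rfl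
  rw [e] at h
  have hm : (g : M2) * (X : M2) = ((H56.semiSL g (RingEquiv.refl F) X : S2) : M2) * g := by
    show (g : M2) * (X : M2) = H56.smat (H56.semiSL g (RingEquiv.refl F) X) * (g : M2)
    rw [H56.smat_semiSL, mul_assoc, ← Units.val_mul, inv_mul_cancel, Units.val_one, mul_one]
    congr 1
  rcases H34.proj_eq_iff.1 h with h1 | h1
  · left; rw [hm, ← h1]
  · right
    rw [hm]
    conv_rhs => rw [h1]
    rw [Matrix.SpecialLinearGroup.coe_neg, neg_mul, neg_neg]

/-- An automorphism induced by a linear map fixing two commuting involutions is conjugation by an element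
of the four-group they generate. -/
theorem semiAut_pair [Fintype F] (h2 : (2 : F) ≠ 0) {i j : S2} (hp : H34.IsPair i j) {g : GL (Fin 2) F}
    (hi : H56.semiAut g (RingEquiv.refl F) (i : P2) = (i : P2))
    (hj : H56.semiAut g (RingEquiv.refl F) (j : P2) = (j : P2)) :
    ∃ w : P2, (w = 1 ∨ w = (i : P2) ∨ w = (j : P2) ∨ w = (i : P2) * (j : P2)) ∧
      H56.semiAut g (RingEquiv.refl F) = MulAut.conj w := by
  have hij : (i : M2) * (j : M2) = -((j : M2) * (i : M2)) := by
    have := congrArg (fun a : S2 => (a : M2)) hp.2.2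
    simpa using this
  have hii : (i : M2) * (i : M2) = -1 := by
    have := congrArg (fun a : S2 => (a : M2)) hp.1
    simpa using this
  have hjj : (j : M2) * (j : M2) = -1 := by
    have := congrArg (fun a : S2 => (a : M2)) hp.2.1
    simpa using this
  -- once a suitable element is multiplied in, everything commutes
  have key : ∀ w : S2, (w : M2) * ((g : M2) * (i : M2)) = (i : M2) * ((w : M2) * (g : M2)) →
      (w : M2) * ((g : M2) * (j : M2)) = (j : M2) * ((w : M2) * (g : M2)) →
      H56.semiAut g (RingEquiv.refl F) = MulAut.conj ((w⁻¹ : S2) : P2) := by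
    intro w e1 e2
    obtain ⟨c, hc⟩ := scalar_of_commute_pair h2 hp
      (h := Matrix.SpecialLinearGroup.toGL w * g)
      (by simpa [mul_assoc] using e1) (by simpa [mul_assoc] using e2)
    have hg : g = Matrix.SpecialLinearGroup.toGL w⁻¹ * Matrix.GeneralLinearGroup.scalar (Fin 2) c := by
      rw [← hc, map_inv, inv_mul_cancel_left]
    have hgl : ∀ h : GL (Fin 2) F, H56.glMap (RingEquiv.refl F) h = h := fun h => by
      refine Units.ext ?_
      rw [H56.glMap_coe]
      ext a b
      simp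
    have h3 := H56.semiAut_mul (Matrix.SpecialLinearGroup.toGL w⁻¹) (Matrix.GeneralLinearGroup.scalar (Fin 2) c)
      (RingEquiv.refl F) (RingEquiv.refl F)
    rw [hgl, H56.semiAut_scalar, mul_one, H56.semiAut_eq_conj, ← hg] at h3
    rw [show (RingEquiv.refl F).trans (RingEquiv.refl F) = RingEquiv.refl F from RingEquiv.ext fun _ => rfl] at h3
    exact h3.symm
  have hinv : ∀ {x : S2}, x * x = -1 → ((x⁻¹ : S2) : P2) = (x : P2) := fun {x} hx => by
    rw [H34.sl_inv_eq_neg hx, H34.proj_neg]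
  rcases semiAut_fix_iff g hi with a | a <;> rcases semiAut_fix_iff g hj with b | b
  · refine ⟨1, Or.inl rfl, ?_⟩
    have := key 1 (by simpa using a) (by simpa using b)
    simpa using this
  · refine ⟨(i : P2), Or.inr (Or.inl rfl), ?_⟩
    rw [← hinv hp.1]
    refine key i ?_ ?_
    · rw [a]
    · rw [b, mul_neg, ← mul_assoc, ← mul_assoc, hij]; simp [mul_assoc]
  · refine ⟨(j : P2), Or.inr (Or.inr (Or.inl rfl)), ?_⟩
    rw [← hinv hp.2.1]
    refine key j ?_ ?_
    · rw [a, mul_neg, ← mul_assoc, ← mul_assoc, hij]; simp [mul_assoc]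
    · rw [b]
  · refine ⟨(i : P2) * (j : P2), Or.inr (Or.inr (Or.inr rfl)), ?_⟩
    rw [← QuotientGroup.mk_mul, ← hinv hp.prod.2.1]
    refine key (i * j) ?_ ?_
    · rw [a, Matrix.SpecialLinearGroup.coe_mul, mul_neg]
      have : (i : M2) * (j : M2) * (i : M2) = -((i : M2) * ((i : M2) * (j : M2))) := by
        calc (i : M2) * (j : M2) * (i : M2) = (i : M2) * ((j : M2) * (i : M2)) := mul_assoc _ _ _
          _ = (i : M2) * -((i : M2) * (j : M2)) := by rw [hij, neg_neg]
          _ = _ := mul_neg _ _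
      rw [← mul_assoc ((i : M2) * (j : M2)), this]
      simp [mul_assoc]
    · rw [b, Matrix.SpecialLinearGroup.coe_mul, mul_neg]
      have : (i : M2) * (j : M2) * (j : M2) = -((j : M2) * ((i : M2) * (j : M2))) := by
        rw [← mul_assoc (j : M2), ← neg_mul, ← hij]
      rw [← mul_assoc ((i : M2) * (j : M2)), this]
      simp [mul_assoc]

theorem exists_ne_sq [Fintype F] (hF : 3 < Fintype.card F) : ∃ a : F, a ≠ 0 ∧ a ^ 2 ≠ 1 := by
  classical
  by_contra h
  push Not at h
  have hsub : (Finset.univ : Finset F) ⊆ {0, 1, -1} := by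
    intro a _
    by_cases ha : a = 0
    · simp [ha]
    · rcases sq_eq_one_iff.1 (h a ha) with e | e <;> simp [e]
  have := Finset.card_le_card hsub
  have h3 : ({0, 1, -1} : Finset F).card ≤ 3 := Finset.card_le_three
  rw [Finset.card_univ] at this
  omega

/-- If a Sylow 2-subgroup of PSL₂(q) is abelian, the field has no automorphism of order two. -/
theorem ringAut_eq_one [Fintype F] (hodd : Odd (Fintype.card F))
    (hab : ∀ P : Sylow 2 P2, IsMulCommutative (P : Subgroup P2)) {σ : RingAut F} {k : ℕ}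
    (hσ : σ ^ 2 ^ k = 1) : σ = 1 := by
  obtain ⟨p, hp⟩ := CharP.exists F
  obtain ⟨f, hpp, hf⟩ := FiniteField.card F p
  have : Fact p.Prime := ⟨hpp⟩
  obtain ⟨e⟩ := H56.ringAut_equiv (F := F) f.pos hf
  rcases Nat.even_or_odd (f : ℕ) with ⟨r, hr⟩ | hfo
  · exfalso
    -- q is a square, so 16 divides |SL₂(q)|
    have hpo : Odd p := by
      rw [hf] at hodd
      exact (Nat.odd_pow_iff f.ne_zero).1 hodd
    have hq8 : ∃ m, Fintype.card F = 8 * m + 1 := by
      obtain ⟨s, hs⟩ : Odd (p ^ r) := hpo.pow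
      refine ⟨s * (s + 1) / 2, ?_⟩
      obtain ⟨t, ht⟩ := Nat.even_mul_succ_self s
      rw [ht, show (t + t) / 2 = t by omega, hf, hr, pow_add, hs]
      have : (2 * s + 1) * (2 * s + 1) = 4 * (s * (s + 1)) + 1 := by ring
      rw [this, ht]; ring
    obtain ⟨P₂⟩ : Nonempty (Sylow 2 S2) := inferInstance
    obtain ⟨l, hl1, ⟨el⟩⟩ := H27.QuaternionSylow.sylow_equiv_quaternion hodd P₂
    have h16 : 2 ^ 4 ∣ Nat.card S2 := by
      obtain ⟨m, hm⟩ := hq8
      rw [Linear.card_SL_two, hm, show (8 * m + 1) ^ 2 = 16 * (4 * m * m + m) + 1 by ring, Nat.add_sub_cancel]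
      exact Dvd.dvd.mul_left (Dvd.intro _ rfl) _
    have hl2 : 2 ≤ l := by
      by_contra hlt
      obtain rfl : l = 1 := by omega
      have h1 := P₂.pow_dvd_card_of_pow_dvd_card (n := 4) h16
      rw [Nat.card_congr el.toEquiv, Nat.card_eq_fintype_card, QuaternionGroup.card] at h1
      norm_num at h1
    set π := QuotientGroup.mk' (Subgroup.center S2)
    obtain ⟨P, hP⟩ := (P₂.2.map π).exists_le_sylow
    have hPc := (hab P).is_comm
    set a := el.symm (QuaternionGroup.a 1)
    set b := el.symm (QuaternionGroup.xa 0)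
    have hcz : ((a * b * a⁻¹ * b⁻¹ : (P₂ : Subgroup S2)) : S2) ∈ Subgroup.center S2 := by
      rw [← QuotientGroup.eq_one_iff]
      have := hPc.comm ⟨π a, hP ⟨a, a.2, rfl⟩⟩ ⟨π b, hP ⟨b, b.2, rfl⟩⟩
      have h : π a * π b = π b * π a := congrArg Subtype.val this
      show π ((a : S2) * (b : S2) * (a : S2)⁻¹ * (b : S2)⁻¹) = 1
      simp [h]
    set c := a * b * a⁻¹ * b⁻¹
    have hcb : c * b = b * c := Subtype.ext ((Subgroup.mem_center_iff.1 hcz _).symm)
    have hq := congrArg el hcb
    simp only [c, map_mul, map_inv, a, b, MulEquiv.apply_symm_apply] at hq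
    have hai : (QuaternionGroup.a 1 : QuaternionGroup (2 ^ l))⁻¹ = QuaternionGroup.a (-1) := rfl
    have hbi : (QuaternionGroup.xa 0 : QuaternionGroup (2 ^ l))⁻¹ =
      QuaternionGroup.xa (((2 ^ l : ℕ) : ZMod (2 * 2 ^ l)) + 0) := rfl
    rw [hai, hbi] at hq
    simp at hq
    have hn0 : (2 : ZMod (2 * 2 ^ l)) * ((2 : ZMod (2 * 2 ^ l)) ^ l) = 0 := by
      have := ZMod.natCast_self (2 * 2 ^ l)
      push_cast at this
      exact this
    have h4 : (4 : ZMod (2 * 2 ^ l)) = 0 := by
      linear_combination -hq - 2 * hn0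
    have h4' : ((4 : ℕ) : ZMod (2 * 2 ^ l)) = 0 := by exact_mod_cast h4
    rw [ZMod.natCast_eq_zero_iff] at h4'
    have h8 : 2 ^ 3 ≤ 2 * 2 ^ l := by rw [← pow_succ']; exact Nat.pow_le_pow_right two_pos (by omega)
    have := Nat.le_of_dvd (by norm_num) h4'
    omega
  · refine orderOf_eq_one_iff.1 ?_
    have h1 : orderOf σ ∣ 2 ^ k := orderOf_dvd_of_pow_eq_one hσ
    have h3 : orderOf σ ∣ (f : ℕ) := by
      have := orderOf_dvd_natCard σ
      rwa [Nat.card_congr e.toEquiv, Nat.card_eq_fintype_card, Fintype.card_multiplicative, ZMod.card] at this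
    exact Nat.eq_one_of_dvd_coprimes ((Nat.coprime_two_left.2 hfo).pow_left k) h1 h3

/-- A 2-power order automorphism of PSL₂(q) (abelian Sylow 2) fixing two commuting involutions is inner. -/
theorem inner_of_fix [Fintype F] (hodd : Odd (Fintype.card F))
    (hab : ∀ P : Sylow 2 P2, IsMulCommutative (P : Subgroup P2)) (φ : MulAut P2) {k : ℕ}
    (hk : φ ^ 2 ^ k = 1) {u v : P2} (hu1 : u ≠ 1) (hv1 : v ≠ 1) (huv : u ≠ v) (hu : u * u = 1)
    (hv : v * v = 1) (hc : u * v = v * u) (hfu : φ u = u) (hfv : φ v = v) :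
    ∃ w : P2, (w = 1 ∨ w = u ∨ w = v ∨ w = u * v) ∧ φ = MulAut.conj w := by
  have h2 := Linear.two_ne_zero_of_odd_card hodd
  obtain ⟨i, rfl⟩ := QuotientGroup.mk_surjective u
  obtain ⟨j, rfl⟩ := QuotientGroup.mk_surjective v
  have hp := H34.isPair_of_proj h2 hu1 hv1 hu hv hc huv
  obtain ⟨g, σ, rfl⟩ := H56.exists_semiAut_two φ
  obtain rfl : σ = RingEquiv.refl F := by
    refine ringAut_eq_one hodd hab (k := k) (σ := σ) ?_
    rw [← H56.fieldHom_semiAut le_rfl g σ, ← map_pow, hk, map_one]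
  exact semiAut_pair h2 hp hfu hfv

/-- A four-group of PSL₂(q) with an element permuting its involutions cyclically. -/
theorem exists_four [Fintype F] (hodd : Odd (Fintype.card F)) :
    ∃ u v τ : P2, u ≠ 1 ∧ v ≠ 1 ∧ u ≠ v ∧ u * u = 1 ∧ v * v = 1 ∧ u * v = v * u ∧
      τ * u * τ⁻¹ = v ∧ τ * v * τ⁻¹ = u * v := by
  have h2 := Linear.two_ne_zero_of_odd_card hodd
  obtain ⟨x, y, hxy⟩ := H34.exists_pair (F := F) hodd
  obtain ⟨V, hV, hx, hy⟩ := H34.exists_klein h2 hxy
  have h3 : 3 ∣ Nat.card (Subgroup.normalizer (V : Set P2)) := by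
    by_cases hsq : IsSquare (2 : F)
    · rw [(H34.card_normalizer hodd V).1 hsq]; norm_num
    · rw [(H34.card_normalizer hodd V).2 hsq]; norm_num
  have : Fact (Nat.Prime 3) := ⟨Nat.prime_three⟩
  obtain ⟨⟨n, hn⟩, hn3⟩ := exists_prime_orderOf_dvd_card' 3 h3
  rw [Subgroup.orderOf_mk] at hn3
  have hnV := Subgroup.mem_normalizer_iff.1 hn
  have hel : ∀ z ∈ V, z = 1 ∨ z = (x : P2) ∨ z = (y : P2) ∨ z = (x : P2) * (y : P2) := fun z hz =>
    H34.klein_elems hx hy (H34.proj_ne_one h2 hxy.1) (H34.proj_ne_one h2 hxy.2.1) (hxy.proj_ne h2) hz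
  -- some involution is moved
  obtain ⟨u, huV, hu1, hmove⟩ : ∃ u ∈ V, u ≠ 1 ∧ n * u * n⁻¹ ≠ u := by
    by_contra hcon
    push Not at hcon
    have hx' := hcon _ hx (H34.proj_ne_one h2 hxy.1)
    have hy' := hcon _ hy (H34.proj_ne_one h2 hxy.2.1)
    obtain ⟨g, rfl⟩ := QuotientGroup.mk_surjective n
    obtain ⟨w, hw, hw'⟩ := semiAut_pair h2 hxy (g := Matrix.SpecialLinearGroup.toGL g)
      (by rw [H56.semiAut_eq_conj]; exact hx') (by rw [H56.semiAut_eq_conj]; exact hy')
    rw [H56.semiAut_eq_conj] at hw'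
    have hz : (w⁻¹ * (g : P2)) ∈ Subgroup.center P2 := by
      rw [Subgroup.mem_center_iff]
      intro z
      have h := DFunLike.congr_fun hw' z
      have h' : (g : P2) * z * (g : P2)⁻¹ = w * z * w⁻¹ := h
      calc z * (w⁻¹ * (g : P2)) = w⁻¹ * (w * z * w⁻¹) * (g : P2) := by group
        _ = w⁻¹ * ((g : P2) * z * (g : P2)⁻¹) * (g : P2) := by rw [h']
        _ = _ := by group
    have hc1 : Subgroup.center P2 = ⊥ := H27.LowRank.center_psl_two (by
      have := Fintype.one_lt_card (α := F); obtain ⟨r, hr⟩ := hodd; omega)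
    rw [hc1, Subgroup.mem_bot] at hz
    have hgw : (g : P2) = w := (inv_mul_eq_one.1 hz).symm
    have hwV : w ∈ V := by
      rcases hw with rfl | rfl | rfl | rfl
      exacts [one_mem _, hx, hy, mul_mem hx hy]
    have hww := (H34.klein_props V hwV hwV).1
    rw [hgw] at hn3
    have := orderOf_dvd_of_pow_eq_one (show w ^ 2 = 1 by rw [pow_two, hww])
    rw [hn3] at this
    norm_num at this
  set v := n * u * n⁻¹ with hv
  have hvV : v ∈ V := (hnV u).1 huV
  have hv1 : v ≠ 1 := fun h => hu1 (conj_eq_one_iff.1 h)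
  have huu := (H34.klein_props V huV huV).1
  have hvv := (H34.klein_props V hvV hvV).1
  have huv := (H34.klein_props V huV hvV).2
  refine ⟨u, v, n, hu1, hv1, Ne.symm hmove, huu, hvv, huv, rfl, ?_⟩
  rcases H34.klein_elems huV hvV hu1 hv1 (Ne.symm hmove) ((hnV v).1 hvV) with h | h | h | h
  · exact absurd (conj_eq_one_iff.1 h) hv1
  · exfalso
    apply hmove
    have hn3' : n * n * n = 1 := by rw [← pow_three', ← hn3, pow_orderOf_eq_one]
    calc v = n * (n * (n * u * n⁻¹) * n⁻¹) * n⁻¹ := by rw [show n * (n * u * n⁻¹) * n⁻¹ = u from h]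
      _ = (n * n * n) * u * (n * n * n)⁻¹ := by group
      _ = u := by rw [hn3', one_mul, inv_one, mul_one]
  · exact absurd ((MulAut.conj n).injective (show MulAut.conj n v = MulAut.conj n u from h.trans hv)) (fun e => hmove e)
  · exact h

end Cfsg.Agent.H64.PSLFour
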