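import Cfsg.Agent.H64.UniqueInvolution

/-!
Automorphisms of a nonabelian 2-group with a unique involution.
-/

set_option autoImplicit false
set_option linter.unusedSectionVars false

namespace Cfsg.Agent.H64.QuaternionAut

open Subgroup

variable {E : Type*} [Group E] [Finite E]

/-- The action of automorphisms on the subgroups of order four. -/
noncomputable def theta (E : Type*) [Group E] :
    MulAut E →* Equiv.Perm {A : Subgroup E // Nat.card A = 4} where
  toFun α :=
    { toFun := fun A => ⟨A.1.map (α : E ≃* E).toMonoidHom,
        (card_map_of_injective (α : E ≃* E).injective).trans A.2⟩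
      invFun := fun A => ⟨A.1.map ((α : E ≃* E).symm).toMonoidHom,
        (card_map_of_injective ((α : E ≃* E).symm).injective).trans A.2⟩
      left_inv := fun A => Subtype.ext (by
        ext x; simp [Subgroup.mem_map])
      right_inv := fun A => Subtype.ext (by
        ext x; simp [Subgroup.mem_map]) }
  map_one' := by
    ext A x
    simp [Subgroup.mem_map]
  map_mul' α β := by
    ext A x
    simp [Subgroup.mem_map]

theorem theta_apply (α : MulAut E) (A : {A : Subgroup E // Nat.card A = 4}) :
    ((theta E α A) : Subgroup E) = A.1.map (α : E ≃* E).toMonoidHom := rfl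

/-- Either all automorphisms are 2-elements, or the group has order eight and they act on the at
most three subgroups of order four with a 2-group of order at most four as kernel, inner
automorphisms acting trivially. -/
theorem aut_cases (hE : IsPGroup 2 E) (hna : ¬ IsMulCommutative E)
    (hu : ∃! x : E, orderOf x = 2) :
    IsPGroup 2 (MulAut E) ∨
      (Nat.card E = 8 ∧ Nat.card {A : Subgroup E // Nat.card A = 4} ≤ 3 ∧
        IsPGroup 2 (theta E).ker ∧ Nat.card (theta E).ker ≤ 4 ∧
        ∀ e : E, MulAut.conj e ∈ (theta E).ker) := by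
  obtain ⟨k, a, b, hk, ha, hb, hconj, hsq, hgen⟩ := H64.exists_quaternion_gens hE hna hu
  have hpow : ∀ i : ℕ, b * a ^ i * b⁻¹ = (a ^ i)⁻¹ := fun i => by
    rw [← conj_pow, hconj, inv_pow]
  have hsqi : ∀ i : ℕ, (b * a ^ i) ^ 2 = b ^ 2 := fun i => by
    rw [pow_two, pow_two]
    calc b * a ^ i * (b * a ^ i) = (b * a ^ i * b⁻¹) * (b * b) * a ^ i := by group
      _ = (a ^ i)⁻¹ * (b * b) * a ^ i := by rw [hpow]
      _ = b * b := by
        rw [← pow_two, hsq, mul_assoc, ← pow_add, Nat.add_comm, pow_add, inv_mul_cancel_left]
  have ha0 : a ^ 2 ^ k = 1 := ha ▸ pow_orderOf_eq_one a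
  have hord4 : ∀ i : ℕ, (b * a ^ i) ^ 4 = 1 := fun i => by
    rw [show 4 = 2 * 2 from rfl, pow_mul, hsqi, hsq, ← pow_mul, ← pow_succ,
      Nat.sub_add_cancel (by omega), ha0]
  rcases Nat.lt_or_ge k 3 with hk3 | hk3
  swap
  · left
    intro α
    refine ⟨(k - 1) + k, ?_⟩
    obtain ⟨m, hm⟩ : ∃ m : ℕ, α a = a ^ m := by
      obtain ⟨i, hi | hi⟩ := hgen (α a)
      · exact ⟨i, hi⟩
      · exfalso
        have h1 : orderOf (α a) ∣ 4 := hi ▸ orderOf_dvd_of_pow_eq_one (hord4 i)
        rw [MulEquiv.orderOf_eq, ha] at h1
        have := Nat.le_of_dvd (by norm_num) h1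
        have : 2 ^ 3 ≤ 2 ^ k := Nat.pow_le_pow_right (by norm_num) hk3
        omega
    have hit : ∀ j : ℕ, (α ^ j) a = a ^ m ^ j := fun j => by
      induction j with
      | zero => simp
      | succ j ih => rw [pow_succ', MulAut.mul_apply, ih, map_pow, hm, ← pow_mul, pow_succ']
    have hmc : m.Coprime (2 ^ k) := by
      have h : orderOf (a ^ m) = orderOf a := by rw [← hm, MulEquiv.orderOf_eq]
      rw [orderOf_pow, ha] at h
      have hg : Nat.gcd (2 ^ k) m ∣ 2 ^ k := Nat.gcd_dvd_left _ _
      have := (Nat.div_eq_self.1 h).resolve_left (by positivity)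
      exact Nat.Coprime.symm this
    set β := α ^ 2 ^ (k - 1) with hβ
    have hβa : β a = a := by
      rw [hit]
      conv_rhs => rw [← pow_one a]
      refine pow_eq_pow_iff_modEq.2 ?_
      rw [ha]
      have := Nat.ModEq.pow_totient hmc
      rwa [Nat.totient_prime_pow Nat.prime_two (by omega), show 2 - 1 = 1 from rfl, mul_one] at this
    obtain ⟨i, hi⟩ : ∃ i : ℕ, β b = b * a ^ i := by
      obtain ⟨i, hi | hi⟩ := hgen (β b)
      · exfalso
        apply hb
        have : β b = β (a ^ i) := by rw [hi, map_pow, hβa]
        rw [β.injective this]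
        exact pow_mem (mem_zpowers a) i
      · exact ⟨i, hi⟩
    have hβit : ∀ j : ℕ, (β ^ j) a = a ∧ (β ^ j) b = b * a ^ (i * j) := fun j => by
      induction j with
      | zero => simp
      | succ j ih =>
        rw [pow_succ', MulAut.mul_apply, MulAut.mul_apply, ih.1, ih.2, map_mul, map_pow, hβa, hi,
          mul_assoc, ← pow_add]
        exact ⟨rfl, by rw [show i + i * j = i * (j + 1) by ring]⟩
    rw [pow_add, pow_mul, ← hβ]
    obtain ⟨h1, h2⟩ := hβit (2 ^ k)
    rw [mul_comm i, pow_mul, ha0, one_pow, mul_one] at h2
    ext x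
    obtain ⟨j, rfl | rfl⟩ := hgen x
    · rw [map_pow, h1]; rfl
    · rw [map_mul, map_pow, h1, h2]; rfl
  · right
    obtain rfl : k = 2 := by omega
    simp only [show 2 - 1 = 1 from rfl, pow_one] at hsq
    have ha4 : a ^ 4 = 1 := ha0
    -- the three cyclic subgroups
    have hsub : ∀ A : Subgroup E, Nat.card A = 4 →
        A = zpowers a ∨ A = zpowers b ∨ A = zpowers (b * a) := by
      intro A hA
      obtain ⟨w, -, hw⟩ := hu
      -- an element of order four
      obtain ⟨x, hx⟩ : ∃ x : A, orderOf (x : E) = 4 := by
        by_contra hc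
        push Not at hc
        have hle : ∀ x : A, x = 1 ∨ (x : E) = w := fun x => by
          have h4 := Subgroup.orderOf_dvd_natCard A x.2
          rw [hA] at h4
          have := Nat.le_of_dvd (by norm_num) h4
          have hx0 := orderOf_pos (x : E)
          rcases (show orderOf (x : E) = 1 ∨ orderOf (x : E) = 2 by
            have := hc x
            interval_cases h : orderOf (x : E) <;> omega) with h | h
          · exact Or.inl (Subtype.ext (orderOf_eq_one_iff.1 h))
          · exact Or.inr (hw _ h)
        classical
        have : Nat.card A ≤ Nat.card Bool := by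
          refine Nat.card_le_card_of_injective (fun x : A => decide (x = 1)) fun x y hxy => ?_
          simp only [decide_eq_decide] at hxy
          rcases hle x with rfl | hx
          · exact (hxy.1 rfl).symm
          · rcases hle y with rfl | hy
            · exact hxy.2 rfl
            · exact Subtype.ext (hx.trans hy.symm)
        simp [hA] at this
      have hAx : A = zpowers (x : E) :=
        (eq_of_le_of_card_ge (zpowers_le.2 x.2) (by rw [Nat.card_zpowers, hx, hA])).symm
      have key : ∀ y z : E, orderOf y = 4 → z ∈ zpowers y → orderOf z = 4 →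
          zpowers z = zpowers y := fun y z hy hz hz4 =>
        eq_of_le_of_card_ge (zpowers_le.2 hz) (by rw [Nat.card_zpowers, Nat.card_zpowers, hy, hz4])
      obtain ⟨i, hi | hi⟩ := hgen (x : E)
      · left
        rw [hAx]
        exact key a x ha (hi ▸ pow_mem (mem_zpowers a) i) hx
      · right
        have hcase : b * a ^ i ∈ zpowers b ∨ b * a ^ i ∈ zpowers (b * a) := by
          have hmod : a ^ i = a ^ (i % 4) := by
            conv_lhs => rw [← Nat.mod_add_div i 4, pow_add, pow_mul, ha4, one_pow, mul_one]
          rw [hmod]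
          have : i % 4 < 4 := Nat.mod_lt _ (by norm_num)
          interval_cases i % 4
          · left; simp
          · right; simp
          · left
            rw [← hsq]
            exact mul_mem (mem_zpowers b) (pow_mem (mem_zpowers b) 2)
          · right
            rw [show b * a ^ 3 = b * a * a ^ 2 by group, ← hsq,
              show b ^ 2 = (b * a) ^ 2 from by simpa using (hsqi 1).symm]
            exact mul_mem (mem_zpowers _) (pow_mem (mem_zpowers _) 2)
        have hord : ∀ j : ℕ, orderOf (b * a ^ j) = 4 := fun j => by
          refine orderOf_eq_prime_pow (p := 2) (n := 1) ?_ (hord4 j)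
          rw [pow_one, hsqi, hsq]
          intro h
          have := orderOf_dvd_of_pow_eq_one h
          rw [ha] at this
          norm_num at this
        have hb4 : orderOf b = 4 := by simpa using hord 0
        have hba4 : orderOf (b * a) = 4 := by simpa using hord 1
        rcases hcase with h | h
        · left; rw [hAx, hi]; exact key b _ hb4 h (hord i)
        · right; rw [hAx, hi]; exact key (b * a) _ hba4 h (hord i)
    have hcardE : Nat.card E = 8 := by
      classical
      have hidx : ∀ x : E, ∃ (s : Bool) (i : Fin 4), x = (if s then b else 1) * a ^ (i : ℕ) := by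
        intro x
        obtain ⟨i, hi | hi⟩ := hgen x
        · exact ⟨false, ⟨i % 4, Nat.mod_lt _ (by norm_num)⟩, by
            rw [hi]; simp; conv_lhs => rw [← Nat.mod_add_div i 4, pow_add, pow_mul, ha4, one_pow, mul_one]⟩
        · exact ⟨true, ⟨i % 4, Nat.mod_lt _ (by norm_num)⟩, by
            rw [hi]; simp; conv_lhs => rw [← Nat.mod_add_div i 4, pow_add, pow_mul, ha4, one_pow, mul_one]⟩
      have hle : Nat.card E ≤ Nat.card (Bool × Fin 4) :=
        Nat.card_le_card_of_surjective (fun s : Bool × Fin 4 => (if s.1 then b else 1) * a ^ (s.2 : ℕ))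
          fun x => by obtain ⟨s, i, h⟩ := hidx x; exact ⟨(s, i), h.symm⟩
      simp at hle
      have hA : Nat.card (zpowers a) = 4 := by rw [Nat.card_zpowers, ha]; rfl
      have h1 := (zpowers a).card_mul_index
      rw [hA] at h1
      have h2 : (zpowers a).index ≠ 1 := fun h => hb (by rw [index_eq_one.1 h]; trivial)
      have h3 : 0 < (zpowers a).index := Nat.pos_of_ne_zero index_ne_zero_of_finite
      omega
    have hfix : ∀ α ∈ (theta E).ker, ∀ x : E, orderOf x = 4 → α x ∈ zpowers x := by
      intro α hα x hx
      have h := congrArg Subtype.val (DFunLike.congr_fun (MonoidHom.mem_ker.1 hα)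
        ⟨zpowers x, by rw [Nat.card_zpowers, hx]⟩)
      rw [theta_apply] at h
      have h2 := mem_map_of_mem (α : E ≃* E).toMonoidHom (mem_zpowers x)
      rw [h] at h2
      exact h2
    have hb4 : orderOf b = 4 := by
      refine orderOf_eq_prime_pow (p := 2) (n := 1) ?_ (by simpa using hord4 0)
      rw [pow_one, hsq]
      intro h
      have := orderOf_dvd_of_pow_eq_one h
      rw [ha] at this
      norm_num at this
    have ha' : orderOf a = 4 := ha
    have hpm : ∀ α ∈ (theta E).ker, ∀ x : E, orderOf x = 4 → α x = x ∨ α x = x⁻¹ := by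
      intro α hα x hx
      obtain ⟨j, hj⟩ := (mem_powers_iff_mem_zpowers).2 (hfix α hα x hx)
      have hj : x ^ j = α x := hj
      have hmod : x ^ j = x ^ (j % 4) := by rw [← hx, pow_mod_orderOf]
      have ho : orderOf (α x) = 4 := by rw [MulEquiv.orderOf_eq, hx]
      rw [← hj, hmod] at ho
      rw [← hj, hmod]
      have h4 : x ^ 4 = 1 := hx ▸ pow_orderOf_eq_one x
      have : j % 4 < 4 := Nat.mod_lt _ (by norm_num)
      interval_cases j % 4
      · simp at ho
      · left; simp
      · exfalso
        have : orderOf (x ^ 2) ∣ 2 := orderOf_dvd_of_pow_eq_one (by rw [← pow_mul]; exact h4)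
        rw [ho] at this
        norm_num at this
      · right; exact eq_inv_of_mul_eq_one_left (by rw [← pow_succ]; exact h4)
    have hext : ∀ α β : MulAut E, α a = β a → α b = β b → α = β := by
      intro α β h1 h2
      ext x
      obtain ⟨j, rfl | rfl⟩ := hgen x
      · rw [map_pow, map_pow, h1]
      · rw [map_mul, map_mul, map_pow, map_pow, h1, h2]
    refine ⟨hcardE, ?_, ?_, ?_, ?_⟩
    · have h := Set.ncard_le_ncard (s := {A : Subgroup E | Nat.card A = 4})
        (t := {zpowers a, zpowers b, zpowers (b * a)})
        (fun A hA => by rcases hsub A hA with h | h | h <;> simp [h]) (Set.toFinite _)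
      refine le_trans (le_of_eq_of_le (Nat.card_coe_set_eq _) h) ?_
      refine (Set.ncard_insert_le _ _).trans ?_
      have := Set.ncard_insert_le (zpowers b) ({zpowers (b * a)} : Set (Subgroup E))
      rw [Set.ncard_singleton] at this
      omega
    · refine fun α => ⟨1, Subtype.ext ?_⟩
      have key : ∀ x : E, orderOf x = 4 → ((α : MulAut E) ^ 2) x = x := fun x hx => by
        rw [pow_two, MulAut.mul_apply]
        rcases hpm _ α.2 x hx with h | h
        · rw [h, h]
        · rw [h, map_inv, h, inv_inv]
      show ((α : MulAut E)) ^ 2 ^ 1 = 1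
      rw [pow_one]
      exact hext _ _ (key a ha') (key b hb4)
    · classical
      let f : (theta E).ker → Bool × Bool := fun α =>
        (decide ((α : MulAut E) a = a), decide ((α : MulAut E) b = b))
      have hf : Function.Injective f := by
        intro α β h
        simp only [f, Prod.mk.injEq, decide_eq_decide] at h
        refine Subtype.ext (hext _ _ ?_ ?_)
        · rcases hpm _ α.2 a ha' with h1 | h1
          · rw [h1, h.1.1 h1]
          · rcases hpm _ β.2 a ha' with h2 | h2
            · rw [h2, h.1.2 h2]
            · rw [h1, h2]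
        · rcases hpm _ α.2 b hb4 with h1 | h1
          · rw [h1, h.2.1 h1]
          · rcases hpm _ β.2 b hb4 with h2 | h2
            · rw [h2, h.2.2 h2]
            · rw [h1, h2]
      simpa using Nat.card_le_card_of_injective f hf
    · intro e
      rw [MonoidHom.mem_ker]
      apply Equiv.ext
      intro A
      apply Subtype.ext
      rw [theta_apply, Equiv.Perm.one_apply]
      have hn : A.1.Normal := Subgroup.normal_of_index_eq_two (by
        have h1 := A.1.card_mul_index
        rw [A.2, hcardE] at h1
        omega)
      ext x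
      rw [Subgroup.mem_map]
      constructor
      · rintro ⟨y, hy, rfl⟩
        exact hn.conj_mem y hy e
      · exact fun hx => ⟨e⁻¹ * x * e, by simpa using hn.conj_mem x hx e⁻¹, by simp [mul_assoc]⟩

end Cfsg.Agent.H64.QuaternionAut
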