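import Mathlib
import Cfsg.Agent.Linear.TwoSL
import Cfsg.Agent.Linear.Order

/-!
Subgroups isomorphic to SL₂ of odd order field inside a group, and commuting pairs of them.
-/

set_option autoImplicit false

namespace Cfsg.Agent.H64.SLPair

open Subgroup

section SL

variable {F : Type*} [Field F]

local notation "M2" => Matrix (Fin 2) (Fin 2) F
local notation "S2" => Matrix.SpecialLinearGroup (Fin 2) F

theorem neg_one_ne_one (h2 : (2 : F) ≠ 0) : (-1 : S2) ≠ 1 := by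
  intro h
  have h' : ((-1 : S2) : M2) 0 0 = ((1 : S2) : M2) 0 0 := by rw [h]
  simp at h'
  exact h2 (by linear_combination -h')

/-- An element commuting with all its conjugates is central. -/
theorem eq_pm_one_of_commute_conj (h2 : (2 : F) ≠ 0) {a : S2}
    (h : ∀ g : S2, Commute a (g * a * g⁻¹)) : a = 1 ∨ a = -1 := by
  let T : S2 := ⟨!![1, 1; 0, 1], by simp [Matrix.det_fin_two_of]⟩
  let U : S2 := ⟨!![1, 0; 1, 1], by simp [Matrix.det_fin_two_of]⟩
  have hT : ((T : S2) : M2) = !![1, 1; 0, 1] := rfl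
  have hU : ((U : S2) : M2) = !![1, 0; 1, 1] := rfl
  have h1 := congrArg (fun x : S2 => (x : M2)) (h T).eq
  have h2' := congrArg (fun x : S2 => (x : M2)) (h U).eq
  simp only [Matrix.SpecialLinearGroup.coe_mul, Matrix.SpecialLinearGroup.coe_inv, hT, hU,
    Matrix.adjugate_fin_two_of] at h1 h2'
  have e10 := congrFun (congrFun h1 1) 0
  have e01 := congrFun (congrFun h2' 0) 1
  simp [Matrix.mul_apply, Matrix.vecMul, dotProduct, Fin.sum_univ_two] at e10 e01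
  have hs : (a : M2) 1 0 = 0 := by
    have : (2 : F) * ((a : M2) 1 0 * (a : M2) 1 0) = 0 := by linear_combination e10
    exact mul_self_eq_zero.1 ((mul_eq_zero.1 this).resolve_left h2)
  have hr : (a : M2) 0 1 = 0 := by
    have : (2 : F) * ((a : M2) 0 1 * (a : M2) 0 1) = 0 := by linear_combination e01
    exact mul_self_eq_zero.1 ((mul_eq_zero.1 this).resolve_left h2)
  have e := congrFun (congrFun h1 0) 1
  simp [Matrix.mul_apply, Matrix.vecMul, dotProduct, Fin.sum_univ_two, hs, hr] at e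
  have : ((a : M2) 0 0 - (a : M2) 1 1) * ((a : M2) 0 0 - (a : M2) 1 1) = 0 := by
    linear_combination -e
  exact Linear.isScalarTwo_SL_iff.1 ⟨hr, hs, sub_eq_zero.1 (mul_self_eq_zero.1 this)⟩

theorem trace_eq_zero_of_sq {g : S2} (hg : g * g = -1) : (g : M2).trace = 0 := by
  have hi : g⁻¹ = -g := inv_eq_of_mul_eq_one_right (by rw [mul_neg, hg, neg_neg])
  obtain ⟨i00, -, -, -⟩ := Linear.SL_inv_entries g
  rw [hi] at i00
  simp at i00
  rw [Matrix.trace_fin_two, ← i00, add_neg_cancel]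

theorem conj_of_sq_neg_one [Fintype F] (h2 : (2 : F) ≠ 0) {g h : S2} (hg : g * g = -1) (hh : h * h = -1) :
    ∃ c : S2, c * g * c⁻¹ = h := by
  have ns : ∀ {x : S2}, x * x = -1 → ¬ Linear.IsScalarTwo (x : M2) := fun {x} hx hs => by
    rcases Linear.isScalarTwo_SL_iff.1 hs with rfl | rfl
    · rw [one_mul] at hx; exact neg_one_ne_one h2 hx.symm
    · rw [neg_mul_neg, one_mul] at hx; exact neg_one_ne_one h2 hx.symm
  refine isConj_iff.1 (Linear.isConj_of_trace_eq (ns hg) (ns hh) ?_ (Or.inr ?_))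
  · rw [trace_eq_zero_of_sq hg, trace_eq_zero_of_sq hh]
  · rw [trace_eq_zero_of_sq hg, zero_pow two_ne_zero, show (4 : F) = 2 * 2 by norm_num]
    exact (mul_ne_zero h2 h2).symm

theorem exists_sq_neg_one : ∃ g : S2, g * g = -1 := by
  refine ⟨⟨!![0, -1; 1, 0], by simp [Matrix.det_fin_two_of]⟩, Subtype.ext ?_⟩
  show (!![0, -1; 1, 0] : M2) * !![0, -1; 1, 0] = -1
  simp [Matrix.mul_fin_two, Matrix.one_fin_two]

theorem card_eq_of_card_SL_eq [Fintype F] {F' : Type*} [Field F'] [Fintype F']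
    (h : Nat.card S2 = Nat.card (Matrix.SpecialLinearGroup (Fin 2) F')) :
    Fintype.card F = Fintype.card F' := by
  rw [Linear.card_SL_two, Linear.card_SL_two] at h
  have mono : ∀ {a b : ℕ}, 2 ≤ a → a < b → a * (a ^ 2 - 1) < b * (b ^ 2 - 1) := by
    intro a b ha hab
    have h4 : 1 < a ^ 2 := lt_of_lt_of_le (by norm_num) (Nat.pow_le_pow_left ha 2)
    exact Nat.mul_lt_mul'' hab (Nat.sub_lt_sub_right h4.le (Nat.pow_lt_pow_left hab two_ne_zero))
  rcases lt_trichotomy (Fintype.card F) (Fintype.card F') with hlt | heq | hgt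
  · exact absurd h (mono Fintype.one_lt_card hlt).ne
  · exact heq
  · exact absurd h.symm (mono Fintype.one_lt_card hgt).ne

end SL

section Embedded

variable {G : Type*} [Group G] {F : Type*} [Field F] {L : Subgroup G}
  {j : G}

theorem map_eq_neg_one (h2 : (2 : F) ≠ 0) (e : ↥L ≃* Matrix.SpecialLinearGroup (Fin 2) F) (hjL : j ∈ L)
    (hj : orderOf j = 2) : e ⟨j, hjL⟩ = -1 := by
  have hjj : e ⟨j, hjL⟩ * e ⟨j, hjL⟩ = 1 := by
    rw [← map_mul, show (⟨j, hjL⟩ : L) * ⟨j, hjL⟩ = 1 from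
      Subtype.ext (show j * j = 1 by rw [← pow_two, ← hj, pow_orderOf_eq_one]), map_one]
  refine (Linear.eq_one_or_neg_one_of_sq h2 hjj).resolve_left fun h => ?_
  rw [MulEquiv.map_eq_one_iff, Subgroup.mk_eq_one] at h
  rw [h, orderOf_one] at hj
  omega

theorem eq_one_or_of_sq (h2 : (2 : F) ≠ 0) (e : ↥L ≃* Matrix.SpecialLinearGroup (Fin 2) F) (hjL : j ∈ L)
    (hj : orderOf j = 2) {a : G} (ha : a ∈ L) (haa : a * a = 1) : a = 1 ∨ a = j := by
  have h : e ⟨a, ha⟩ * e ⟨a, ha⟩ = 1 := by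
    rw [← map_mul, show (⟨a, ha⟩ : L) * ⟨a, ha⟩ = 1 from Subtype.ext haa, map_one]
  rcases Linear.eq_one_or_neg_one_of_sq h2 h with h | h
  · rw [MulEquiv.map_eq_one_iff, Subgroup.mk_eq_one] at h
    exact Or.inl h
  · rw [← map_eq_neg_one h2 e hjL hj] at h
    exact Or.inr (congrArg Subtype.val (e.injective h))

theorem exists_sq_eq (h2 : (2 : F) ≠ 0) (e : ↥L ≃* Matrix.SpecialLinearGroup (Fin 2) F) (hjL : j ∈ L)
    (hj : orderOf j = 2) : ∃ a ∈ L, a * a = j := by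
  obtain ⟨g, hg⟩ := exists_sq_neg_one (F := F)
  refine ⟨(e.symm g : L), (e.symm g).2, ?_⟩
  have : e.symm g * e.symm g = ⟨j, hjL⟩ := e.injective (by
    rw [map_mul, MulEquiv.apply_symm_apply, hg, map_eq_neg_one h2 e hjL hj])
  exact congrArg Subtype.val this

theorem conj_of_sq [Fintype F] (h2 : (2 : F) ≠ 0) (e : ↥L ≃* Matrix.SpecialLinearGroup (Fin 2) F)
    (hjL : j ∈ L) (hj : orderOf j = 2) {a b : G} (ha : a ∈ L) (hb : b ∈ L) (haa : a * a = j)
    (hbb : b * b = j) : ∃ g ∈ L, g * a * g⁻¹ = b := by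
  have key : ∀ {x : G} (hx : x ∈ L), x * x = j → e ⟨x, hx⟩ * e ⟨x, hx⟩ = -1 := fun {x} hx hxx => by
    rw [← map_mul, ← map_eq_neg_one h2 e hjL hj]
    exact congrArg e (Subtype.ext hxx)
  obtain ⟨c, hc⟩ := conj_of_sq_neg_one h2 (key ha haa) (key hb hbb)
  refine ⟨(e.symm c : L), (e.symm c).2, ?_⟩
  have : e.symm c * ⟨a, ha⟩ * (e.symm c)⁻¹ = ⟨b, hb⟩ := e.injective (by
    rw [map_mul, map_mul, map_inv, MulEquiv.apply_symm_apply, hc])
  exact congrArg Subtype.val this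

/-- An element of `L` commuting with all its `L`-conjugates lies in `⟨j⟩`. -/
theorem mem_zpowers_of_commute_conj (h2 : (2 : F) ≠ 0) (e : ↥L ≃* Matrix.SpecialLinearGroup (Fin 2) F)
    (hjL : j ∈ L) (hj : orderOf j = 2) {a : G} (ha : a ∈ L)
    (h : ∀ g ∈ L, Commute a (g * a * g⁻¹)) : a ∈ zpowers j := by
  have : ∀ c, Commute (e ⟨a, ha⟩) (c * e ⟨a, ha⟩ * c⁻¹) := fun c => by
    have h' : Commute (⟨a, ha⟩ : L) (e.symm c * ⟨a, ha⟩ * (e.symm c)⁻¹) :=
      Subtype.ext (h _ (e.symm c).2).eq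
    simpa using h'.map e
  rcases eq_pm_one_of_commute_conj h2 this with h | h
  · rw [MulEquiv.map_eq_one_iff, Subgroup.mk_eq_one] at h
    rw [h]
    exact one_mem _
  · rw [← map_eq_neg_one h2 e hjL hj] at h
    rw [show a = j from congrArg Subtype.val (e.injective h)]
    exact mem_zpowers j

/-- The centralizer in `L` of an element of `L` outside `⟨j⟩` is abelian. -/
theorem centralizer_comm (h2 : (2 : F) ≠ 0) (e : ↥L ≃* Matrix.SpecialLinearGroup (Fin 2) F)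
    (hjL : j ∈ L) (hj : orderOf j = 2) {b x y : G} (hb : b ∈ L) (hbj : b ∉ zpowers j) (hx : x ∈ L)
    (hy : y ∈ L) (hxb : Commute x b) (hyb : Commute y b) : Commute x y := by
  have hns : ¬ Linear.IsScalarTwo ((e ⟨b, hb⟩ : Matrix.SpecialLinearGroup (Fin 2) F) : Matrix (Fin 2) (Fin 2) F) := by
    intro h
    rcases Linear.isScalarTwo_SL_iff.1 h with h | h
    · rw [MulEquiv.map_eq_one_iff, Subgroup.mk_eq_one] at h
      exact hbj (h ▸ one_mem _)
    · rw [← map_eq_neg_one h2 e hjL hj] at h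
      exact hbj ((show b = j from congrArg Subtype.val (e.injective h)) ▸ mem_zpowers j)
  have hm : ∀ {u : G} (hu : u ∈ L), Commute u b → e ⟨u, hu⟩ ∈ centralizer {e ⟨b, hb⟩} := fun {u} hu hub => by
    rw [mem_centralizer_singleton_iff, ← map_mul, ← map_mul]
    exact congrArg e (Subtype.ext hub.eq)
  have := Linear.centralizer_comm hns (hm hx hxb) (hm hy hyb)
  rw [← map_mul, ← map_mul] at this
  exact congrArg Subtype.val (e.injective this)

end Embedded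

section Pair

variable {G : Type*} [Group G] {L₁ L₂ : Subgroup G} {j : G}

theorem mem_sup_iff (hc : ∀ x ∈ L₁, ∀ y ∈ L₂, x * y = y * x) {x : G} :
    x ∈ L₁ ⊔ L₂ ↔ ∃ a ∈ L₁, ∃ b ∈ L₂, a * b = x := by
  have h : L₂ ≤ normalizer (L₁ : Set G) :=
    le_trans (fun y hy => mem_centralizer_iff.2 fun a ha => hc a ha y hy) (centralizer_le_normalizer _)
  rw [← SetLike.mem_coe, coe_mul_of_right_le_normalizer_left _ _ h, Set.mem_mul]
  rfl

theorem mem_zpowers_involution_iff (hj : orderOf j = 2) {x : G} : x ∈ zpowers j ↔ x = 1 ∨ x = j := by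
  refine ⟨fun h => ?_, ?_⟩
  · obtain ⟨k, rfl⟩ := h
    dsimp only
    rw [← zpow_mod_orderOf, hj]
    rcases Int.emod_two_eq_zero_or_one k with h | h <;> simp [h]
  · rintro (rfl | rfl)
    exacts [one_mem _, mem_zpowers _]

theorem j_mem (hm : L₁ ⊓ L₂ = zpowers j) : j ∈ L₁ ∧ j ∈ L₂ := by
  have : j ∈ L₁ ⊓ L₂ := hm ▸ mem_zpowers j
  exact this

theorem commutes_j (hc : ∀ x ∈ L₁, ∀ y ∈ L₂, x * y = y * x) (hm : L₁ ⊓ L₂ = zpowers j) :
    ∀ x ∈ L₁ ⊔ L₂, j * x = x * j := by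
  intro x hx
  obtain ⟨a, ha, b, hb, rfl⟩ := (mem_sup_iff hc).1 hx
  obtain ⟨h1, h2⟩ := j_mem hm
  calc j * (a * b) = (a * j) * b := by rw [← mul_assoc, ← hc a ha j h2]
    _ = a * b * j := by rw [mul_assoc, hc j h1 b hb, mul_assoc]

theorem le_of_inf_central {M K A B : Subgroup G} {F' : Type*} [Field F'] (hF : (2 : F') ≠ 0)
    (eA : ↥A ≃* Matrix.SpecialLinearGroup (Fin 2) F') (hj : orderOf j = 2)
    (hAB : ∀ x ∈ A, ∀ y ∈ B, x * y = y * x) (hjA : j ∈ A) (hjB : j ∈ B) (hA : A ≤ M)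
    (hKn : ∀ g ∈ M, ∀ k ∈ K, g * k * g⁻¹ ∈ K)
    (hdec : ∀ k ∈ K, ∃ a ∈ A, ∃ b ∈ B, a * b = k) (hcen : K ⊓ A ≤ zpowers j) : K ≤ B := by
  intro k hk
  obtain ⟨a, ha, b, hb, rfl⟩ := hdec k hk
  refine B.mul_mem ?_ hb
  have : a ∈ zpowers j := by
    refine mem_zpowers_of_commute_conj hF eA hjA hj ha fun g hg => ?_
    have hmem : g * (a * b) * g⁻¹ * (a * b)⁻¹ ∈ K := K.mul_mem (hKn g (hA hg) _ hk) (K.inv_mem hk)
    have he : g * (a * b) * g⁻¹ * (a * b)⁻¹ = g * a * g⁻¹ * a⁻¹ := by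
      calc g * (a * b) * g⁻¹ * (a * b)⁻¹ = g * a * (b * g⁻¹) * b⁻¹ * a⁻¹ := by group
        _ = _ := by rw [← hAB _ (A.inv_mem hg) b hb]; group
    rw [he] at hmem
    have hz := hcen ⟨hmem, A.mul_mem (A.mul_mem (A.mul_mem hg ha) (A.inv_mem hg)) (A.inv_mem ha)⟩
    have hza : ∀ z ∈ zpowers j, Commute a z := by
      intro z hz'
      obtain ⟨n, rfl⟩ := hz'
      exact Commute.zpow_right (hAB a ha j hjB) n
    have := (hza _ hz).mul_right (Commute.refl a)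
    rwa [inv_mul_cancel_right] at this
  exact (zpowers_le.2 hjB) this

/-- A normal subgroup of `L₁L₂` isomorphic to some SL₂ lies in one of the factors. -/
theorem le_or_le {F₁ : Type*} [Field F₁] {F₂ : Type*} [Field F₂] {F : Type*} [Field F]
    (h1 : (2 : F₁) ≠ 0) (h2 : (2 : F₂) ≠ 0) (h : (2 : F) ≠ 0)
    (e₁ : ↥L₁ ≃* Matrix.SpecialLinearGroup (Fin 2) F₁) (e₂ : ↥L₂ ≃* Matrix.SpecialLinearGroup (Fin 2) F₂)
    {K : Subgroup G} (e : ↥K ≃* Matrix.SpecialLinearGroup (Fin 2) F)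
    (hc : ∀ x ∈ L₁, ∀ y ∈ L₂, x * y = y * x) (hj : orderOf j = 2) (hm : L₁ ⊓ L₂ = zpowers j)
    (hK : K ≤ L₁ ⊔ L₂) (hjK : j ∈ K) (hKn : ∀ g ∈ L₁ ⊔ L₂, ∀ k ∈ K, g * k * g⁻¹ ∈ K) :
    K ≤ L₁ ∨ K ≤ L₂ := by
  obtain ⟨hj1, hj2⟩ := j_mem hm
  by_cases hA : K ⊓ L₁ ≤ zpowers j
  · exact Or.inr (le_of_inf_central h1 e₁ hj hc hj1 hj2 le_sup_left hKn (fun k hk => (mem_sup_iff hc).1 (hK hk)) hA)
  by_cases hB : K ⊓ L₂ ≤ zpowers j
  · refine Or.inl (le_of_inf_central h2 e₂ hj (fun x hx y hy => (hc y hy x hx).symm) hj2 hj1 le_sup_right hKn (fun k hk => ?_) hB)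
    obtain ⟨a, ha, b, hb, rfl⟩ := (mem_sup_iff hc).1 (hK hk)
    exact ⟨b, hb, a, ha, (hc a ha b hb).symm⟩
  exfalso
  obtain ⟨b, ⟨hbK, hb⟩, hbj⟩ := SetLike.not_le_iff_exists.1 hB
  refine hA fun a ⟨haK, ha⟩ => mem_zpowers_of_commute_conj h1 e₁ hj1 hj ha fun g hg => ?_
  have hg' : g * a * g⁻¹ ∈ L₁ := L₁.mul_mem (L₁.mul_mem hg ha) (L₁.inv_mem hg)
  exact centralizer_comm h e hjK hj hbK hbj haK (hKn g (mem_sup_left hg) a haK)
    (hc a ha b hb) (hc _ hg' b hb)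

end Pair

end Cfsg.Agent.H64.SLPair
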