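import Mathlib
import Cfsg.Agent.H64.SLPair
import Cfsg.Agent.S3209
import Cfsg.Agent.H61.ZStarCor

/-!
Two commuting SL₂'s inside an involution centralizer, interchanged by an element squaring to the involution:
the involution is weakly closed.
-/

set_option autoImplicit false

namespace Cfsg.Agent.H64.SwapPair

open Subgroup

section SL

variable {F : Type*} [Field F]

local notation "M2" => Matrix (Fin 2) (Fin 2) F
local notation "S2" => Matrix.SpecialLinearGroup (Fin 2) F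

theorem sq_eq_neg_one_of_inverts (h2 : (2 : F) ≠ 0) {g x : S2} (hgx : g * x * g⁻¹ = -x) :
    g * g = -1 := by
  have h' : x * g * x⁻¹ = -g := by
    have e1 : g * x = -(x * g) := by
      calc g * x = g * x * g⁻¹ * g := by group
        _ = _ := by rw [hgx, neg_mul]
    calc x * g * x⁻¹ = -(g * x) * x⁻¹ := by rw [e1, neg_neg]
      _ = -g := by rw [neg_mul, mul_inv_cancel_right]
  have ht : (g : M2).trace = 0 := by
    have h := congrArg (fun s : S2 => (s : M2).trace) h'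
    simp only [Matrix.SpecialLinearGroup.coe_mul, Matrix.SpecialLinearGroup.coe_neg, Matrix.trace_neg] at h
    rw [Matrix.trace_mul_comm, ← mul_assoc, ← Matrix.SpecialLinearGroup.coe_mul, inv_mul_cancel,
      Matrix.SpecialLinearGroup.coe_one, one_mul] at h
    have : (2 : F) * (g : M2).trace = 0 := by linear_combination h
    exact (mul_eq_zero.1 this).resolve_left h2
  rw [Matrix.trace_fin_two] at ht
  have hd := Linear.SL_det_two g
  refine Linear.SL_ext_two ?_ ?_ ?_ ?_ <;> rw [Linear.SL_mul_entries] <;> simp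
  · linear_combination (g : M2) 0 0 * ht - hd
  · linear_combination (g : M2) 0 1 * ht
  · linear_combination (g : M2) 1 0 * ht
  · linear_combination (g : M2) 1 1 * ht - hd

end SL

theorem sq_eq_of_inverts {G : Type*} [Group G] {F : Type*} [Field F] {L : Subgroup G} {j : G}
    (h2 : (2 : F) ≠ 0) (e : ↥L ≃* Matrix.SpecialLinearGroup (Fin 2) F) (hjL : j ∈ L) (hj : orderOf j = 2)
    {a a₀ : G} (ha : a ∈ L) (ha₀ : a₀ ∈ L) (h : a * a₀ * a⁻¹ = j * a₀) : a * a = j := by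
  have e1 := congrArg e (show (⟨a, ha⟩ : L) * ⟨a₀, ha₀⟩ * ⟨a, ha⟩⁻¹ = ⟨j, hjL⟩ * ⟨a₀, ha₀⟩ from Subtype.ext h)
  rw [map_mul, map_mul, map_inv, map_mul, SLPair.map_eq_neg_one h2 e hjL hj, neg_one_mul] at e1
  have e3 := sq_eq_neg_one_of_inverts h2 e1
  rw [← map_mul, ← SLPair.map_eq_neg_one h2 e hjL hj] at e3
  exact congrArg Subtype.val (e.injective e3)

section Weak

variable {G : Type*} [Group G] [Finite G] {F₁ : Type*} [Field F₁] [Fintype F₁] {F₂ : Type*} [Field F₂]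
  [Fintype F₂] {L₁ L₂ : Subgroup G} {j n : G}

/-- The involution `j` is the only one of its conjugacy class in its centralizer. -/
theorem eq_of_conj_mem (hF₁ : Odd (Fintype.card F₁)) (hF₂ : Odd (Fintype.card F₂))
    (e₁ : ↥L₁ ≃* Matrix.SpecialLinearGroup (Fin 2) F₁) (e₂ : ↥L₂ ≃* Matrix.SpecialLinearGroup (Fin 2) F₂)
    (hc : ∀ x ∈ L₁, ∀ y ∈ L₂, x * y = y * x) (hj : orderOf j = 2) (hm : L₁ ⊓ L₂ = zpowers j)
    (hle : L₁ ⊔ L₂ ≤ centralizer ({j} : Set G))
    (hi : (L₁ ⊔ L₂).relIndex (centralizer ({j} : Set G)) = 2) (hn : n ∈ centralizer ({j} : Set G))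
    (hn2 : n ^ 2 = j) (hswap : L₁.map (MulAut.conj n).toMonoidHom = L₂) :
    ∀ g : G, g * j * g⁻¹ ∈ centralizer ({j} : Set G) → g * j * g⁻¹ = j := by
  have h1 := Linear.two_ne_zero_of_odd_card hF₁
  have h2 := Linear.two_ne_zero_of_odd_card hF₂
  obtain ⟨hj1, hj2⟩ := SLPair.j_mem hm
  have hjj : j * j = 1 := by rw [← pow_two, ← hj, pow_orderOf_eq_one]
  have hjne : j ≠ 1 := fun h => by rw [h, orderOf_one] at hj; omega
  set C := centralizer ({j} : Set G)
  set M := L₁ ⊔ L₂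
  have hCj : ∀ y ∈ C, Commute y j := fun y hy => mem_centralizer_singleton_iff.1 hy
  rw [pow_two] at hn2
  have hmeet : ∀ {w : G}, w ∈ L₁ ∧ w ∈ L₂ → w ∈ zpowers j := fun {w} h => hm ▸ mem_inf.2 h
  have hn12 : ∀ x ∈ L₁, n * x * n⁻¹ ∈ L₂ := fun x hx => hswap ▸ ⟨x, hx, rfl⟩
  have hn21 : ∀ x ∈ L₂, n * x * n⁻¹ ∈ L₁ := fun x hx => by
    obtain ⟨a, ha, hax⟩ : x ∈ L₁.map (MulAut.conj n).toMonoidHom := hswap.symm ▸ hx
    rw [show n * x * n⁻¹ = j * a * j⁻¹ by rw [← hax, ← hn2]; show n * (n * a * n⁻¹) * n⁻¹ = _; group]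
    exact mul_mem (mul_mem hj1 ha) (inv_mem hj1)
  have hjL1 : ∀ x ∈ L₁, j * x = x * j := fun x hx => (hc x hx j hj2).symm
  have hjL2 : ∀ x ∈ L₂, j * x = x * j := fun x hx => hc j hj1 x hx
  -- a product of an element of L₁ and its image lying in ⟨j⟩ is trivial
  have prod_swap : ∀ y ∈ C, ∀ w ∈ L₁, y * w * y⁻¹ ∈ L₂ → w * (y * w * y⁻¹) ∈ zpowers j →
      w * (y * w * y⁻¹) = 1 := by
    intro y hy w hw hw' hz
    have hwm : w ∈ zpowers j := hmeet ⟨hw, by
      rw [← mul_inv_cancel_right w (y * w * y⁻¹)]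
      exact mul_mem (zpowers_le.2 hj2 hz) (inv_mem hw')⟩
    rcases (SLPair.mem_zpowers_involution_iff hj).1 hwm with rfl | rfl
    · simp
    · rw [(hCj y hy).eq, mul_inv_cancel_right, hjj]
  obtain ⟨a₀, ha₀, haa⟩ := SLPair.exists_sq_eq h1 e₁ hj1 hj
  have ha₀j : a₀ ∉ zpowers j := fun h => by
    rcases (SLPair.mem_zpowers_involution_iff hj).1 h with h' | h' <;> rw [h'] at haa
    · exact hjne (by rw [← haa, one_mul])
    · exact hjne (haa.symm.trans hjj)
  have hnM : n ∉ M := by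
    intro h
    obtain ⟨a, ha, b, hb, hab⟩ := (SLPair.mem_sup_iff hc).1 h
    apply ha₀j
    rw [← hm]
    refine ⟨ha₀, ?_⟩
    have := hn12 (a⁻¹ * a₀ * a) (mul_mem (mul_mem (inv_mem ha) ha₀) ha)
    rw [← hab] at this
    have e : a * b * (a⁻¹ * a₀ * a) * (a * b)⁻¹ = a₀ := by
      calc a * b * (a⁻¹ * a₀ * a) * (a * b)⁻¹ = a * (b * (a⁻¹ * a₀ * a)) * b⁻¹ * a⁻¹ := by group
        _ = a * (a⁻¹ * a₀ * a * b) * b⁻¹ * a⁻¹ := by
          rw [hc _ (mul_mem (mul_mem (inv_mem ha) ha₀) ha) b hb]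
        _ = a₀ := by group
    rwa [e] at this
  have hout : ∀ y ∈ C, y ∉ M → ∃ a ∈ L₁, ∃ b ∈ L₂, y = a * b * n := by
    intro y hy hyM
    have hnC : n⁻¹ ∈ C := inv_mem hn
    have hnM' : n⁻¹ ∉ M := fun h => hnM (inv_mem_iff.1 h)
    have : y * n⁻¹ ∈ M := (Subgroup.mul_mem_iff_of_index_two (H := M.subgroupOf C) hi
      (a := ⟨y, hy⟩) (b := ⟨n⁻¹, hnC⟩)).2 (iff_of_false hyM hnM')
    obtain ⟨a, ha, b, hb, hab⟩ := (SLPair.mem_sup_iff hc).1 this
    exact ⟨a, ha, b, hb, by rw [hab, inv_mul_cancel_right]⟩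
  have hyswap : ∀ y ∈ C, y ∉ M → (∀ x ∈ L₁, y * x * y⁻¹ ∈ L₂) ∧ ∀ x ∈ L₂, y * x * y⁻¹ ∈ L₁ := by
    intro y hy hyM
    obtain ⟨a, ha, b, hb, rfl⟩ := hout y hy hyM
    constructor
    · intro x hx
      have : a * b * n * x * (a * b * n)⁻¹ = b * (n * x * n⁻¹) * b⁻¹ := by
        calc a * b * n * x * (a * b * n)⁻¹ = a * (b * (n * x * n⁻¹) * b⁻¹) * a⁻¹ := by group
          _ = _ := by rw [hc a ha _ (mul_mem (mul_mem hb (hn12 x hx)) (inv_mem hb)), mul_inv_cancel_right]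
      rw [this]
      exact mul_mem (mul_mem hb (hn12 x hx)) (inv_mem hb)
    · intro x hx
      have : a * b * n * x * (a * b * n)⁻¹ = a * (n * x * n⁻¹) * a⁻¹ := by
        calc a * b * n * x * (a * b * n)⁻¹ = a * (b * (n * x * n⁻¹)) * b⁻¹ * a⁻¹ := by group
          _ = _ := by rw [← hc _ (hn21 x hx) b hb]; group
      rw [this]
      exact mul_mem (mul_mem ha (hn21 x hx)) (inv_mem ha)
  have hsq : ∀ y ∈ C, y ∉ M → ∃ u ∈ L₁, y * y = u * (y * u * y⁻¹) * j := by
    intro y hy hyM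
    obtain ⟨a, ha, b, hb, rfl⟩ := hout y hy hyM
    have hb' := hn21 b hb
    have ha' := hn12 a ha
    refine ⟨a * (n * b * n⁻¹), mul_mem ha hb', ?_⟩
    have e : a * b * n * (a * (n * b * n⁻¹)) * (a * b * n)⁻¹ = b * (n * a * n⁻¹) := by
      calc a * b * n * (a * (n * b * n⁻¹)) * (a * b * n)⁻¹
          = a * (b * (n * a * n⁻¹) * ((n * n) * b * (n * n)⁻¹) * b⁻¹) * a⁻¹ := by group
        _ = a * (b * (n * a * n⁻¹)) * a⁻¹ := by rw [hn2, hjL2 b hb, mul_inv_cancel_right, mul_inv_cancel_right]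
        _ = _ := by rw [hc a ha _ (mul_mem hb ha'), mul_inv_cancel_right]
    rw [e]
    calc a * b * n * (a * b * n) = a * (b * (n * a * n⁻¹) * (n * b * n⁻¹)) * (n * n) := by group
      _ = a * ((n * b * n⁻¹) * (b * (n * a * n⁻¹))) * j := by rw [hn2, ← hc _ hb' _ (mul_mem hb ha')]
      _ = _ := by group
  -- all involutions of C lie in M
  have hinv : ∀ y ∈ C, orderOf y = 2 → y ∈ M := by
    intro y hy hy2
    by_contra hyM
    obtain ⟨u, hu, hu2⟩ := hsq y hy hyM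
    rw [← pow_two, ← hy2, pow_orderOf_eq_one] at hu2
    have hz : u * (y * u * y⁻¹) = j := by
      rw [eq_inv_of_mul_eq_one_left hu2.symm, inv_eq_of_mul_eq_one_right hjj]
    exact hjne (hz.symm.trans (prod_swap y hy u hu ((hyswap y hy hyM).1 u hu) (hz ▸ mem_zpowers j)))
  -- the representative
  set b₀ := n * a₀ * n⁻¹
  have hb₀ : b₀ ∈ L₂ := hn12 a₀ ha₀
  have hbb : b₀ * b₀ = j := by
    calc b₀ * b₀ = n * (a₀ * a₀) * n⁻¹ := by simp only [b₀]; group
      _ = j := by rw [haa, (hCj n hn).eq, mul_inv_cancel_right]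
  set x₀ := a₀ * b₀
  have hx₀M : x₀ ∈ M := mul_mem_sup ha₀ hb₀
  have hnb : n * b₀ * n⁻¹ = a₀ := by
    calc n * b₀ * n⁻¹ = (n * n) * a₀ * (n * n)⁻¹ := by simp only [b₀]; group
      _ = a₀ := by rw [hn2, hjL1 a₀ ha₀, mul_inv_cancel_right]
  intro g hg
  by_contra hgj
  -- a conjugate of j equal to x₀
  obtain ⟨x, hxM, hx2, hxj, hclass⟩ := S3209.result hF₁ hF₂ L₁ L₂ e₁ e₂ hc j hj hm
  have hcl : ∀ y ∈ C, orderOf y = 2 → y ≠ j → ∃ c ∈ C, c * x₀ * c⁻¹ = y := by
    intro y hy hy2 hyj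
    have hx₀2 : orderOf x₀ = 2 := by
      refine orderOf_eq_prime ?_ fun h => ha₀j (hmeet ⟨ha₀, ?_⟩)
      · calc x₀ ^ 2 = a₀ * (b₀ * a₀) * b₀ := by simp only [x₀, pow_two]; group
          _ = (a₀ * a₀) * (b₀ * b₀) := by rw [← hc a₀ ha₀ b₀ hb₀]; group
          _ = 1 := by rw [haa, hbb, hjj]
      · rw [eq_inv_of_mul_eq_one_left h]; exact inv_mem hb₀
    have hx₀j : x₀ ≠ j := fun h => ha₀j (hmeet ⟨ha₀, by
      rw [eq_mul_inv_of_mul_eq h]; exact mul_mem hj2 (inv_mem hb₀)⟩)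
    rcases hclass x₀ hx₀M hx₀2 with h | ⟨c, hcM, hc'⟩
    · exact absurd h hx₀j
    rcases hclass y (hinv y hy hy2) hy2 with h | ⟨d, hdM, hd'⟩
    · exact absurd h hyj
    exact ⟨d * c⁻¹, hle (mul_mem hdM (inv_mem hcM)), by rw [← hd', ← hc']; group⟩
  have hconj2 : ∀ k : G, orderOf (k * j * k⁻¹) = 2 := fun k =>
    (MulEquiv.orderOf_eq (MulAut.conj k) j).trans hj
  obtain ⟨c, hcC, hc0⟩ := hcl _ hg (hconj2 g) hgj
  -- now k j k⁻¹ = x₀
  set k := c⁻¹ * g
  have hk : k * j * k⁻¹ = x₀ := by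
    calc k * j * k⁻¹ = c⁻¹ * (g * j * g⁻¹) * c := by simp only [k]; group
      _ = x₀ := by rw [← hc0]; group
  have hx₀C : x₀ ∈ C := hle hx₀M
  have hkC : k⁻¹ * j * k ∈ C := by
    refine mem_centralizer_singleton_iff.2 ?_
    have : Commute (k * (k⁻¹ * j * k) * k⁻¹) (k * j * k⁻¹) := by
      rw [hk, show k * (k⁻¹ * j * k) * k⁻¹ = j by group]; exact (hCj x₀ hx₀C).symm
    have e : k * (k⁻¹ * j * k * j) * k⁻¹ = k * (j * (k⁻¹ * j * k)) * k⁻¹ := by
      calc k * (k⁻¹ * j * k * j) * k⁻¹ = k * (k⁻¹ * j * k) * k⁻¹ * (k * j * k⁻¹) := by group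
        _ = k * j * k⁻¹ * (k * (k⁻¹ * j * k) * k⁻¹) := this.eq
        _ = _ := by group
    exact mul_left_cancel (mul_right_cancel e)
  have hkj : k⁻¹ * j * k ≠ j := by
    intro h
    have hk' : k * j * k⁻¹ = j := by
      calc k * j * k⁻¹ = k * (k⁻¹ * j * k) * k⁻¹ := by rw [h]
        _ = j := by group
    exact hgj (by
      calc g * j * g⁻¹ = c * (k * j * k⁻¹) * c⁻¹ := by simp only [k]; group
        _ = j := by rw [hk', (hCj c hcC).eq, mul_inv_cancel_right])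
  obtain ⟨d, hdC, hd⟩ := hcl _ hkC (by simpa using hconj2 k⁻¹) hkj
  set h := k * d
  have hhx : h * x₀ * h⁻¹ = j := by
    calc h * x₀ * h⁻¹ = k * (d * x₀ * d⁻¹) * k⁻¹ := by simp only [h]; group
      _ = j := by rw [hd]; group
  have hhj : h * j * h⁻¹ = x₀ := by
    calc h * j * h⁻¹ = k * (d * j * d⁻¹) * k⁻¹ := by simp only [h]; group
      _ = x₀ := by rw [(hCj d hdC).eq, mul_inv_cancel_right, hk]
  -- h interchanges j and x₀, so preserves the common centralizer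
  set K := C ⊓ centralizer ({x₀} : Set G)
  have hKh : ∀ y ∈ K, h * y * h⁻¹ ∈ K := by
    intro y hy
    refine ⟨mem_centralizer_singleton_iff.2 ?_, mem_centralizer_singleton_iff.2 ?_⟩
    · rw [← hhx]
      calc h * y * h⁻¹ * (h * x₀ * h⁻¹) = h * (y * x₀) * h⁻¹ := by group
        _ = _ := by rw [mem_centralizer_singleton_iff.1 hy.2]; group
    · rw [← hhj]
      calc h * y * h⁻¹ * (h * j * h⁻¹) = h * (y * j) * h⁻¹ := by group
        _ = _ := by rw [(hCj y hy.1).eq]; group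
  have ha₀K : a₀ ∈ K := ⟨hle (mem_sup_left ha₀), mem_centralizer_singleton_iff.2 (by
    simp only [x₀]; rw [mul_assoc, ← hc a₀ ha₀ b₀ hb₀])⟩
  by_cases hroot : ∃ a ∈ L₁, a * a * a₀⁻¹ ∈ zpowers j
  · -- deep torus
    let E : ℕ → Prop := fun m => ∃ t ∈ L₁, Commute t a₀ ∧ t ^ 2 ^ m = j
    have hE2 : E 2 := by
      obtain ⟨a, ha, hz⟩ := hroot
      have hza : Commute (a * a) a₀ := by
        rcases (SLPair.mem_zpowers_involution_iff hj).1 hz with h | h <;> rw [mul_inv_eq_iff_eq_mul] at h <;>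
          rw [h]
        · simp
        · exact (show Commute j a₀ from hjL1 a₀ ha₀).mul_left (Commute.refl a₀)
      refine ⟨a, ha, ?_, ?_⟩
      · have hz' : a₀ = (a * a * a₀⁻¹)⁻¹ * (a * a) := by group
        rw [hz']
        refine Commute.mul_right ?_ ((Commute.refl a).mul_right (Commute.refl a))
        rcases (SLPair.mem_zpowers_involution_iff hj).1 hz with h | h <;> rw [h]
        · simp
        · exact (show Commute j a from hjL1 a ha).symm.inv_right
      · rcases (SLPair.mem_zpowers_involution_iff hj).1 hz with h | h <;> rw [mul_inv_eq_iff_eq_mul] at h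
        · rw [show 2 ^ 2 = 2 * 2 from rfl, pow_mul, pow_two a, h, one_mul, pow_two, haa]
        · rw [show 2 ^ 2 = 2 * 2 from rfl, pow_mul, pow_two a, h,
            (show Commute j a₀ from hjL1 a₀ ha₀).mul_pow, pow_two, hjj, one_mul, pow_two, haa]
    have hbound : ∀ m, E m → m ≤ Nat.card G := by
      rintro m ⟨t, -, -, ht⟩
      by_contra hlt
      have h2m : ¬ orderOf t ∣ 2 ^ m := fun hd => hjne (by rw [← ht, orderOf_dvd_iff_pow_eq_one.1 hd])
      obtain ⟨i, -, hi⟩ := (Nat.dvd_prime_pow Nat.prime_two).1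
        (orderOf_dvd_of_pow_eq_one (show t ^ 2 ^ (m + 1) = 1 by rw [pow_succ, pow_mul, ht, pow_two, hjj]))
      have hmi : m < i := by
        by_contra hle'
        exact h2m (hi ▸ pow_dvd_pow 2 (by omega))
      have hcard := _root_.orderOf_le_card (G := G) (x := t)
      rw [hi] at hcard
      have := @Nat.lt_two_pow_self i
      omega
    classical
    set m := Nat.findGreatest E (Nat.card G)
    obtain ⟨t, ht, hta, htm⟩ : E m := Nat.findGreatest_spec (hbound 2 hE2) hE2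
    have hm2 : 2 ≤ m := Nat.le_findGreatest (hbound 2 hE2) hE2
    have hmax : ¬ E (m + 1) := fun h => absurd (Nat.le_findGreatest (hbound _ h) h) (by omega)
    obtain ⟨r, hr⟩ : ∃ r, 2 ^ m = 2 * 2 ^ (r + 1) := ⟨m - 2, by rw [← pow_succ']; congr 1; omega⟩
    have heven : ∀ {y : G}, y ∈ C → y ∉ M → ∀ z, y ^ 2 ^ m = z → ∃ w ∈ L₁,
        y * w * y⁻¹ ∈ L₂ ∧ z = w * (y * w * y⁻¹) := by
      intro y hy hyM z hz
      obtain ⟨u, hu, hu2⟩ := hsq y hy hyM
      have hv := (hyswap y hy hyM).1 u hu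
      refine ⟨u ^ 2 ^ (r + 1), pow_mem hu _, (hyswap y hy hyM).1 _ (pow_mem hu _), ?_⟩
      rw [← hz, hr, pow_mul, pow_two, hu2,
        (((show Commute u j from (hjL1 u hu).symm)).mul_left (show Commute (y * u * y⁻¹) j from (hjL2 _ hv).symm)).mul_pow,
        (show Commute u (y * u * y⁻¹) from hc u hu _ hv).mul_pow, conj_pow, pow_succ' 2 r, pow_mul j, pow_two j,
        hjj, one_pow, mul_one]
    -- roots of j commute
    have hjroot : ∀ y ∈ K, y ^ 2 ^ m = j → ∃ a ∈ L₁, ∃ b ∈ L₂, y = a * b ∧ Commute a a₀ ∧ Commute b b₀ := by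
      intro y hy hyr
      by_cases hyM : y ∈ M
      · obtain ⟨a, ha, b, hb, rfl⟩ := (SLPair.mem_sup_iff hc).1 hyM
        have hab : Commute a b := hc a ha b hb
        have hx : a * a₀ * a⁻¹ * (b * b₀ * b⁻¹) = a₀ * b₀ := by
          calc a * a₀ * a⁻¹ * (b * b₀ * b⁻¹) = a * a₀ * (a⁻¹ * b) * b₀ * b⁻¹ := by group
            _ = a * (a₀ * b) * (a⁻¹ * b₀) * b⁻¹ := by rw [hc _ (inv_mem ha) b hb]; group
            _ = a * b * (a₀ * b₀) * (b⁻¹ * a⁻¹)⁻¹⁻¹ := by
              rw [hc a₀ ha₀ b hb, hc _ (inv_mem ha) b₀ hb₀]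
              rw [show (b⁻¹ * a⁻¹)⁻¹⁻¹ = a⁻¹ * b⁻¹ by rw [inv_inv]; exact (hc _ (inv_mem ha) _ (inv_mem hb)).symm]
              group
            _ = _ := by
              rw [inv_inv, mem_centralizer_singleton_iff.1 hy.2]
              simp only [x₀]; group
        have hz : a₀⁻¹ * (a * a₀ * a⁻¹) ∈ zpowers j := hmeet ⟨mul_mem (inv_mem ha₀) (mul_mem (mul_mem ha ha₀) (inv_mem ha)), by
          have : a₀⁻¹ * (a * a₀ * a⁻¹) = b₀ * (b * b₀ * b⁻¹)⁻¹ := by
            rw [eq_mul_inv_iff_mul_eq, mul_assoc, hx, inv_mul_cancel_left]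
          rw [this]
          exact mul_mem hb₀ (inv_mem (mul_mem (mul_mem hb hb₀) (inv_mem hb)))⟩
        rcases (SLPair.mem_zpowers_involution_iff hj).1 hz with hz | hz <;> rw [inv_mul_eq_iff_eq_mul] at hz
        · rw [mul_one] at hz
          rw [hz] at hx
          exact ⟨a, ha, b, hb, rfl, mul_inv_eq_iff_eq_mul.1 hz, mul_inv_eq_iff_eq_mul.1 (mul_left_cancel hx)⟩
        · exfalso
          have hz' : b * b₀ * b⁻¹ = j * b₀ := by
            rw [hz] at hx
            calc b * b₀ * b⁻¹ = (a₀ * j)⁻¹ * (a₀ * j * (b * b₀ * b⁻¹)) := by group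
              _ = _ := by rw [hx, mul_inv_rev, mul_assoc, inv_mul_cancel_left, inv_eq_of_mul_eq_one_right hjj]
          rw [← hjL1 a₀ ha₀] at hz
          have haj := sq_eq_of_inverts h1 e₁ hj1 hj ha ha₀ hz
          have hbj := sq_eq_of_inverts h2 e₂ hj2 hj hb hb₀ hz'
          rw [hr, pow_mul, hab.mul_pow, pow_two, pow_two, haj, hbj, hjj, one_pow] at hyr
          exact hjne hyr.symm
      · exfalso
        obtain ⟨w, hw, hw', hz⟩ := heven hy.1 hyM _ hyr
        exact hjne (hz.trans (prod_swap y hy.1 w hw hw' (hz ▸ mem_zpowers j)))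
    have hjcomm : ∀ y ∈ K, ∀ y' ∈ K, y ^ 2 ^ m = j → y' ^ 2 ^ m = j → Commute y y' := by
      intro y hy y' hy' hyr hyr'
      obtain ⟨a, ha, b, hb, rfl, hca, hcb⟩ := hjroot y hy hyr
      obtain ⟨a', ha', b', hb', rfl, hca', hcb'⟩ := hjroot y' hy' hyr'
      have c1 : Commute a a' := SLPair.centralizer_comm h1 e₁ hj1 hj ha₀ ha₀j ha ha' hca hca'
      have hb₀j : b₀ ∉ zpowers j := fun h => by
        rcases (SLPair.mem_zpowers_involution_iff hj).1 h with h' | h' <;> rw [h'] at hbb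
        · exact hjne (by rw [← hbb, one_mul])
        · exact hjne (hbb.symm.trans hjj)
      have c2 : Commute b b' := SLPair.centralizer_comm h2 e₂ hj2 hj hb₀ hb₀j hb hb' hcb hcb'
      exact (c1.mul_left (show Commute b a' from (hc a' ha' b hb).symm)).mul_right
        ((show Commute a b' from hc a ha b' hb').mul_left c2)
    have htK : t ∈ K := ⟨hle (mem_sup_left ht), mem_centralizer_singleton_iff.2
      (hta.mul_right (show Commute t b₀ from hc t ht b₀ hb₀)).eq⟩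
    -- transfer to x₀
    set y := h * t * h⁻¹
    have hy : y ∈ K := hKh t htK
    have hyr : y ^ 2 ^ m = x₀ := by simp only [y]; rw [conj_pow, htm, hhj]
    have hyM : y ∉ M := by
      intro hyM
      obtain ⟨a, ha, b, hb, hab⟩ := (SLPair.mem_sup_iff hc).1 hyM
      rw [← hab, (show Commute a b from hc a ha b hb).mul_pow] at hyr
      have hz : a₀⁻¹ * a ^ 2 ^ m ∈ zpowers j := hmeet ⟨mul_mem (inv_mem ha₀) (pow_mem ha _), by
        have : a₀⁻¹ * a ^ 2 ^ m = b₀ * (b ^ 2 ^ m)⁻¹ := by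
          rw [eq_mul_inv_iff_mul_eq, mul_assoc, hyr, inv_mul_cancel_left]
        rw [this]
        exact mul_mem hb₀ (inv_mem (pow_mem hb _))⟩
      apply hmax
      rcases (SLPair.mem_zpowers_involution_iff hj).1 hz with hz | hz <;> rw [inv_mul_eq_iff_eq_mul] at hz
      · rw [mul_one] at hz
        exact ⟨a, ha, hz ▸ (Commute.refl a).pow_right _, by rw [pow_succ, pow_mul, hz, pow_two, haa]⟩
      · have e : a₀ = a ^ 2 ^ m * j := by rw [hz, mul_assoc, hjj, mul_one]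
        refine ⟨a, ha, e ▸ ((Commute.refl a).pow_right _).mul_right (show Commute a j from (hjL1 a ha).symm), ?_⟩
        rw [pow_succ, pow_mul, hz, (show Commute a₀ j from (hjL1 a₀ ha₀).symm).mul_pow, pow_two, pow_two, haa, hjj, mul_one]
    set y' := t * y * t⁻¹
    have hy' : y' ∈ K := mul_mem (mul_mem htK hy) (inv_mem htK)
    have hyr' : y' ^ 2 ^ m = x₀ := by
      simp only [y']
      rw [conj_pow, hyr, mem_centralizer_singleton_iff.1 htK.2, mul_inv_cancel_right]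
    have hinvK : ∀ z ∈ K, ∀ z' ∈ K, z ^ 2 ^ m = x₀ → z' ^ 2 ^ m = x₀ → Commute z z' := by
      intro z hz z' hz' e e'
      have := hjcomm _ (hKh z hz) _ (hKh z' hz') (by rw [conj_pow, e, hhx]) (by rw [conj_pow, e', hhx])
      have e1 : h * (z * z') * h⁻¹ = h * (z' * z) * h⁻¹ := by
        calc h * (z * z') * h⁻¹ = h * z * h⁻¹ * (h * z' * h⁻¹) := by group
          _ = h * z' * h⁻¹ * (h * z * h⁻¹) := this.eq
          _ = _ := by group
      exact mul_left_cancel (mul_right_cancel e1)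
    have hcy := hinvK y hy y' hy' hyr hyr'
    set w := y * t⁻¹ * y⁻¹
    have hw : w ∈ L₂ := (hyswap y hy.1 hyM).1 _ (inv_mem ht)
    set s := y * w * y⁻¹
    have hs : s ∈ L₁ := (hyswap y hy.1 hyM).2 _ hw
    have hctw : Commute y (t * w) := by
      have : t * w = y' * y⁻¹ := by simp only [y', w]; group
      rw [this]
      exact hcy.mul_right (Commute.refl y).inv_right
    have heq : w⁻¹ * s = t * w := by
      calc w⁻¹ * s = y * (t * w) * y⁻¹ := by simp only [s, w]; group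
        _ = t * w := by rw [hctw.eq, mul_inv_cancel_right]
    have hts : t⁻¹ * s = w * w := by
      calc t⁻¹ * s = t⁻¹ * (w * (w⁻¹ * s)) := by group
        _ = t⁻¹ * (w * t) * w := by rw [heq]; group
        _ = w * w := by rw [← hc t ht w hw]; group
    have hwm : w * w ∈ zpowers j := hmeet ⟨hts ▸ mul_mem (inv_mem ht) hs, mul_mem hw hw⟩
    have hw4 : w ^ 4 = 1 := by
      rw [show 4 = 2 * 2 from rfl, pow_mul, pow_two w]
      rcases (SLPair.mem_zpowers_involution_iff hj).1 hwm with h | h <;> rw [h, pow_two]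
      · rw [one_mul]
      · exact hjj
    have ht4 : t ^ 4 = 1 := by
      simp only [w] at hw4
      rw [conj_pow, conj_eq_one_iff, inv_pow, inv_eq_one] at hw4
      exact hw4
    obtain ⟨l, hl⟩ : 4 ∣ 2 ^ m := pow_dvd_pow 2 hm2
    rw [hl, pow_mul, ht4, one_pow] at htm
    exact hjne htm.symm
  · -- the torus has a cyclic part of order four only
    push Not at hroot
    have hnK : n ∈ K := ⟨hn, mem_centralizer_singleton_iff.2 (by
      calc n * x₀ = (n * a₀ * n⁻¹) * (n * b₀ * n⁻¹) * n := by simp only [x₀]; group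
        _ = x₀ * n := by rw [hnb]; simp only [x₀]; rw [hc a₀ ha₀ b₀ hb₀])⟩
    have hcom : n * a₀ * n⁻¹ * a₀⁻¹ = j * x₀ := by
      have : a₀⁻¹ = a₀ * j := inv_eq_of_mul_eq_one_right (by rw [← mul_assoc, haa, hjj])
      rw [this]
      show b₀ * (a₀ * j) = j * (a₀ * b₀)
      rw [← mul_assoc, ← hc a₀ ha₀ b₀ hb₀, (hCj x₀ hx₀C).eq]
    set y := h * n * h⁻¹
    set y' := h * a₀ * h⁻¹
    have hy : y ∈ K := hKh n hnK
    have hy' : y' ∈ K := hKh a₀ ha₀K
    have hyy : y * y = x₀ := by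
      calc y * y = h * (n * n) * h⁻¹ := by simp only [y]; group
        _ = x₀ := by rw [hn2, hhj]
    have hyy' : y' * y' = x₀ := by
      calc y' * y' = h * (a₀ * a₀) * h⁻¹ := by simp only [y']; group
        _ = x₀ := by rw [haa, hhj]
    have hcy : y * y' * y⁻¹ * y'⁻¹ = j * x₀ := by
      calc y * y' * y⁻¹ * y'⁻¹ = h * (n * a₀ * n⁻¹ * a₀⁻¹) * h⁻¹ := by simp only [y, y']; group
        _ = (h * j * h⁻¹) * (h * x₀ * h⁻¹) := by rw [hcom]; group
        _ = j * x₀ := by rw [hhj, hhx, (hCj x₀ hx₀C).eq]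
    -- squares in M are never x₀ or x₀ j
    have hnsq : ∀ v ∈ M, v * v ≠ x₀ ∧ v * v ≠ j * x₀ := by
      intro v hv
      obtain ⟨a, ha, b, hb, rfl⟩ := (SLPair.mem_sup_iff hc).1 hv
      have key : ∀ z ∈ zpowers j, a * b * (a * b) ≠ z * x₀ := by
        intro z hz e
        have e' : a * a * (b * b) = z * (a₀ * b₀) := by
          calc a * a * (b * b) = a * (a * b) * b := by group
            _ = a * (b * a) * b := by rw [hc a ha b hb]
            _ = a * b * (a * b) := by group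
            _ = _ := e
        refine hroot a ha (hmeet ⟨mul_mem (mul_mem ha ha) (inv_mem ha₀), ?_⟩)
        have hza : z * a₀ = a₀ * z := by
          rcases (SLPair.mem_zpowers_involution_iff hj).1 hz with rfl | rfl
          · simp
          · exact hjL1 a₀ ha₀
        have e2 : a * a = a₀ * (z * b₀ * (b * b)⁻¹) := by
          calc a * a = a * a * (b * b) * (b * b)⁻¹ := by group
            _ = z * a₀ * b₀ * (b * b)⁻¹ := by rw [e']; group
            _ = _ := by rw [hza]; group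
        have e3 : a * a * a₀⁻¹ = a₀ * (z * b₀ * (b * b)⁻¹) * a₀⁻¹ := by rw [e2]
        rw [e3, hc a₀ ha₀ _ (mul_mem (mul_mem (zpowers_le.2 hj2 hz) hb₀) (inv_mem (mul_mem hb hb))),
          mul_inv_cancel_right]
        exact mul_mem (mul_mem (zpowers_le.2 hj2 hz) hb₀) (inv_mem (mul_mem hb hb))
      exact ⟨by simpa using key 1 (one_mem _), key j (mem_zpowers j)⟩
    have hyM : y ∉ M := fun h => (hnsq y h).1 hyy
    have hyM' : y' ∉ M := fun h => (hnsq y' h).1 hyy'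
    set v := y' * y⁻¹
    have hv : v ∈ M := (Subgroup.mul_mem_iff_of_index_two (H := M.subgroupOf C) hi
      (a := ⟨y', hy'.1⟩) (b := ⟨y⁻¹, inv_mem hy.1⟩)).2 (iff_of_false hyM' fun h => hyM (inv_mem_iff.1 h))
    refine (hnsq v hv).2 ?_
    have hv' : y' = v * y := by simp only [v]; group
    have hvy : v * y * v = y := by
      have := hyy'.trans hyy.symm
      rw [hv', ← mul_assoc] at this
      exact mul_right_cancel this
    have e : y * v = v⁻¹ * y := by
      calc y * v = v⁻¹ * (v * y * v) := by group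
        _ = _ := by rw [hvy]
    have hjx : j * x₀ * (j * x₀) = 1 := by
      calc j * x₀ * (j * x₀) = j * (x₀ * j) * x₀ := by group
        _ = (j * j) * (y * y * (y' * y')⁻¹) * (x₀ * x₀) := by rw [(hCj x₀ hx₀C).eq, hyy, hyy']; group
        _ = x₀ * x₀ := by rw [hjj, hyy, hyy', mul_inv_cancel, one_mul, one_mul]
        _ = 1 := by
          rw [← hhj, show h * j * h⁻¹ * (h * j * h⁻¹) = h * (j * j) * h⁻¹ by group, hjj, mul_one, mul_inv_cancel]
    have hvv : (v * v)⁻¹ = j * x₀ := by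
      rw [← hcy, hv']
      calc (v * v)⁻¹ = v⁻¹ * y * (y⁻¹ * v⁻¹) := by group
        _ = y * v * (y⁻¹ * v⁻¹) := by rw [e]
        _ = _ := by group
    rw [← inv_inv (v * v), hvv, inv_eq_of_mul_eq_one_right hjx]

end Weak

/-- The conclusion, given the Z*-theorem. -/
theorem sup_oddCore_eq_top {G : Type*} [Group G] [Finite G] (hZ : Cfsg.Agent.H61.ZStarTheorem.{u_1})
    {F₁ : Type*} [Field F₁] [Fintype F₁] {F₂ : Type*} [Field F₂] [Fintype F₂]
    (hF₁ : Odd (Fintype.card F₁)) (hF₂ : Odd (Fintype.card F₂)) (L₁ L₂ : Subgroup G)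
    (e₁ : ↥L₁ ≃* Matrix.SpecialLinearGroup (Fin 2) F₁) (e₂ : ↥L₂ ≃* Matrix.SpecialLinearGroup (Fin 2) F₂)
    (hc : ∀ x ∈ L₁, ∀ y ∈ L₂, x * y = y * x) (j : G) (hj : orderOf j = 2) (hm : L₁ ⊓ L₂ = zpowers j)
    (hle : L₁ ⊔ L₂ ≤ centralizer ({j} : Set G))
    (hi : (L₁ ⊔ L₂).relIndex (centralizer ({j} : Set G)) = 2) (n : G) (hn : n ∈ centralizer ({j} : Set G))
    (hn2 : n ^ 2 = j) (hswap : L₁.map (MulAut.conj n).toMonoidHom = L₂) :
    centralizer ({j} : Set G) ⊔ Cfsg.oddCore G = ⊤ := by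
  have : Fact (Nat.Prime 2) := ⟨Nat.prime_two⟩
  have hw := eq_of_conj_mem hF₁ hF₂ e₁ e₂ hc hj hm hle hi hn hn2 hswap
  set C := centralizer ({j} : Set G)
  have hjC : j ∈ C := mem_centralizer_singleton_iff.2 rfl
  obtain ⟨S₀, hS₀⟩ := (IsPGroup.of_card (n := 1) (show Nat.card (zpowers (⟨j, hjC⟩ : C)) = 2 ^ 1 by
    rw [Nat.card_zpowers, Subgroup.orderOf_mk, hj, pow_one])).exists_le_sylow
  obtain ⟨P, hP⟩ := (S₀.2.map C.subtype).exists_le_sylow
  have hjP : j ∈ (P : Subgroup G) := hP ⟨⟨j, hjC⟩, hS₀ (mem_zpowers _), rfl⟩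
  have hPC : (P : Subgroup G) ≤ C := by
    have heq : (P : Subgroup G).subgroupOf C = (S₀ : Subgroup C) :=
      S₀.3 (P.2.comap_subtype) (fun x hx => hP ⟨x, hx, rfl⟩)
    by_contra hne
    obtain ⟨y, hy, hyn⟩ : ∃ y ∈ (P : Subgroup G), y ∉ C := SetLike.not_le_iff_exists.1 hne
    have hlt : ((P : Subgroup G) ⊓ C).subgroupOf (P : Subgroup G) ≠ ⊤ := fun h =>
      hne ((subgroupOf_eq_top.1 h).trans inf_le_right)
    obtain ⟨z, hz, hz'⟩ := SetLike.exists_of_lt (PGroups.lt_normalizer P.2 hlt)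
    apply hz'
    rw [mem_subgroupOf]
    refine ⟨z.2, ?_⟩
    have hjz := (mem_normalizer_iff.1 hz ⟨j, hjP⟩).1 (show j ∈ (P : Subgroup G) ⊓ C from ⟨hjP, hjC⟩)
    have := hw (z : G) hjz.2
    exact mem_centralizer_singleton_iff.2 (mul_inv_eq_iff_eq_mul.1 this)
  obtain ⟨N, hNn, hNodd, hN⟩ := hZ P j hj hjP fun g hg => hw g (hPC hg)
  refine eq_top_iff.2 fun g _ => ?_
  have hjj : j * j = 1 := by rw [← pow_two, ← hj, pow_orderOf_eq_one]
  -- the conjugate of j by g lies in jN and is conjugate to j by an element of N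
  set D := zpowers j ⊔ N
  have hg' : g⁻¹ * j * g ∈ D := by
    have h1 := hN g⁻¹
    have : g⁻¹ * j * g = (j * g⁻¹ * j⁻¹ * g⁻¹⁻¹)⁻¹ * j := by group
    rw [this]
    exact mul_mem (mem_sup_right (inv_mem h1)) (mem_sup_left (mem_zpowers j))
  obtain ⟨P₁, hP₁⟩ := (IsPGroup.of_card (n := 1) (show Nat.card (zpowers (⟨j, mem_sup_left (mem_zpowers j)⟩ : D)) = 2 ^ 1 by
    rw [Nat.card_zpowers, Subgroup.orderOf_mk, hj, pow_one])).exists_le_sylow
  obtain ⟨P₂, hP₂⟩ := (IsPGroup.of_card (n := 1) (show Nat.card (zpowers (⟨g⁻¹ * j * g, hg'⟩ : D)) = 2 ^ 1 by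
    rw [Nat.card_zpowers, Subgroup.orderOf_mk, pow_one, ← hj]
    simpa using MulEquiv.orderOf_eq (MulAut.conj g⁻¹) j)).exists_le_sylow
  have hcard : ∀ Q : Sylow 2 D, Nat.card (Q : Subgroup D) ≤ 2 := by
    intro Q
    have hQd : Nat.card (Q : Subgroup D) ∣ Nat.card D := card_subgroup_dvd_card _
    have hD : Nat.card D ∣ 2 * Nat.card N := by
      have h := relIndex_mul_relIndex ⊥ N D bot_le le_sup_right
      rw [relIndex_bot_left, relIndex_bot_left] at h
      have h2 : N.relIndex (zpowers j ⊔ N) ∣ 2 := by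
        rw [relIndex_sup_right, ← hj, ← Nat.card_zpowers]
        exact relIndex_dvd_card N _
      rw [← h, mul_comm 2]
      exact Nat.mul_dvd_mul_left _ h2
    obtain ⟨k, hk⟩ := Q.2.exists_card_eq
    rw [hk]
    have := (Nat.Coprime.dvd_of_dvd_mul_right ((Nat.coprime_two_left.2 hNodd).pow_left k) (hk ▸ hQd.trans hD))
    exact Nat.le_of_dvd two_pos this
  have hPeq : ∀ (v : D), orderOf v = 2 → ∀ Q : Sylow 2 D, zpowers v ≤ Q → (Q : Subgroup D) = zpowers v :=
    fun v hv Q h => (eq_of_le_of_card_ge h (by rw [Nat.card_zpowers, hv]; exact hcard Q)).symm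
  obtain ⟨d, hd⟩ := MulAction.exists_smul_eq D P₂ P₁
  have hmem : d * ⟨g⁻¹ * j * g, hg'⟩ * d⁻¹ ∈ (P₁ : Subgroup D) := by
    rw [← hd]
    exact smul_mem_pointwise_smul _ (MulAut.conj d) (P₂ : Subgroup D) (hP₂ (mem_zpowers _))
  rw [hPeq _ (by rw [Subgroup.orderOf_mk, hj]) P₁ hP₁] at hmem
  obtain ⟨i, hi'⟩ := hmem
  have hdj : (d : G) * (g⁻¹ * j * g) * (d : G)⁻¹ = j := by
    have h := congrArg Subtype.val hi'
    simp only [SubgroupClass.coe_zpow, Subgroup.coe_mul, InvMemClass.coe_inv] at h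
    rcases (SLPair.mem_zpowers_involution_iff hj).1 (h ▸ zpow_mem (mem_zpowers j) i :
      (d : G) * (g⁻¹ * j * g) * (d : G)⁻¹ ∈ zpowers j) with h' | h'
    · rw [conj_eq_one_iff] at h'
      have : j = 1 := by
        calc j = g * (g⁻¹ * j * g) * g⁻¹ := by group
          _ = 1 := by rw [h', mul_one, mul_inv_cancel]
      rw [this, orderOf_one] at hj; omega
    · exact h'
  have hdg : (d : G) * g⁻¹ ∈ C := by
    refine mem_centralizer_singleton_iff.2 ?_
    calc (d : G) * g⁻¹ * j = ((d : G) * (g⁻¹ * j * g) * (d : G)⁻¹) * ((d : G) * g⁻¹) := by group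
      _ = _ := by rw [hdj]
  have hDle : D ≤ C ⊔ Cfsg.oddCore G :=
    sup_le ((zpowers_le.2 hjC).trans le_sup_left) ((Cores.le_oddCore (N := N) hNodd).trans le_sup_right)
  have : g = ((d : G) * g⁻¹)⁻¹ * d := by group
  rw [this]
  exact mul_mem (inv_mem (mem_sup_left hdg)) (hDle d.2)

end Cfsg.Agent.H64.SwapPair
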