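import Cfsg.Agent.H64.QuaternionAut
import Cfsg.Agent.H24.FPF
import Cfsg.Agent.H76.FPFSylow
import Cfsg.Agent.S0016
import Cfsg.Agent.Cores.Fitting
import Cfsg.Agent.Fusion.PComplement

/-!
Solvable groups acting transitively on the nonidentity elements of an abelian `p`-group, all
stabilisers being `p`-groups: the Sylow `p`-subgroups are abelian and there is a normal
`p`-complement.
-/

set_option autoImplicit false
set_option linter.unusedSectionVars false

namespace Cfsg.Agent.H64.TransSolvable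

open Subgroup QuaternionAut
open scoped commutatorElement

variable {D V : Type*} [Group D] [Finite D] [CommGroup V] [Finite V] {p k : ℕ}

/-- The hypotheses on the action. -/
structure TransData (p k : ℕ) (φ : D →* MulAut V) : Prop where
  card_V : Nat.card V = p ^ k
  kpos : 0 < k
  stab : ∀ (d : D) (v : V), v ≠ 1 → φ d v = v → ∃ i, orderOf d = p ^ i
  trans : ∀ u v : V, u ≠ 1 → v ≠ 1 → ∃ d : D, φ d u = v
  card_D : ∃ b, Nat.card D = (p ^ k - 1) * p ^ b
  core : pCore p D = ⊥

variable [hp : Fact p.Prime] {φ : D →* MulAut V}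

/-- An element of order a power of `p` and of a different prime `q` is trivial. -/
theorem eq_one_of_two_primes {A : Type*} [Group A] {q : ℕ} (hq : q.Prime) (hpq : p ≠ q) {y : A}
    {i j : ℕ} (hi : orderOf y ∣ p ^ i) (hj : orderOf y ∣ q ^ j) : y = 1 :=
  orderOf_eq_one_iff.1
    (Nat.eq_one_of_dvd_coprimes (((Nat.coprime_primes hp.out hq).2 hpq).pow i j) hi hj)

theorem not_dvd_orderOf_of_isPGroup {q : ℕ} (hq : q.Prime) (hqp : q ≠ p) {R : Subgroup D}
    (hR : IsPGroup q R) {d : D} (hd : d ∈ R) : ¬ p ∣ orderOf d := by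
  intro h
  have : Fact q.Prime := ⟨hq⟩
  obtain ⟨j, hj⟩ := IsPGroup.iff_orderOf.1 hR ⟨d, hd⟩
  rw [Subgroup.orderOf_mk] at hj
  rw [hj] at h
  exact hqp ((Nat.prime_dvd_prime_iff_eq hp.out hq).1 (hp.out.dvd_of_dvd_pow h)).symm

theorem eq_one_of_fix (h : TransData p k φ) {d : D} (hd : ¬ p ∣ orderOf d) {v : V} (hv : v ≠ 1)
    (hfix : φ d v = v) : d = 1 := by
  obtain ⟨i, hi⟩ := h.stab d v hv hfix
  rcases Nat.eq_zero_or_pos i with rfl | hpos
  · simpa [orderOf_eq_one_iff] using hi
  · exact absurd (hi ▸ dvd_pow_self p hpos.ne') hd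

theorem nontrivial_V (h : TransData p k φ) : Nontrivial V :=
  Finite.one_lt_card_iff_nontrivial.1 (h.card_V ▸ Nat.one_lt_pow h.kpos.ne' hp.out.one_lt)

/-- Elements of `p`-power order of the Fitting subgroup are trivial. -/
theorem eq_one_of_mem_fitting (h : TransData p k φ) {x : D} (hx : x ∈ fittingSubgroup D) {i : ℕ}
    (hi : orderOf x ∣ p ^ i) : x = 1 := by
  obtain ⟨j, -, hj⟩ := (Nat.dvd_prime_pow hp.out).1 hi
  have hle : zpowers x ≤ pCore p D := by
    refine Cores.le_pCore_of_le_sup (IsPGroup.of_card (n := j) ?_) ?_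
    · rw [Nat.card_zpowers, hj]
    · rw [zpowers_le]
      rw [Cores.iSup_pCore_eq_fittingSubgroup] at hx
      exact Cores.iSup_pCore_le_sup p hx
  rw [h.core, le_bot_iff, zpowers_eq_bot] at hle
  exact hle

/-- The action on a `q`-core. -/
noncomputable def coreHom (D : Type*) [Group D] (q : ℕ) : D →* MulAut (pCore q D) :=
  haveI : (pCore q D).Normal := pCore_normal q D
  MulAut.conjNormal

theorem coreHom_apply {q : ℕ} (d : D) (y : pCore q D) :
    ((coreHom D q d y : pCore q D) : D) = d * y * d⁻¹ := rfl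

theorem commute_of_coreHom_eq_one {q : ℕ} {d y : D} (hd : coreHom D q d = 1) (hy : y ∈ pCore q D) :
    y * d = d * y := by
  have := congrArg Subtype.val (DFunLike.congr_fun hd ⟨y, hy⟩)
  rw [coreHom_apply, MulAut.one_apply] at this
  exact (mul_inv_eq_iff_eq_mul.1 this).symm

theorem mem_centralizer_fitting (h : TransData p k φ) {x : D}
    (hx : ∀ q : ℕ, q.Prime → q ≠ p → coreHom D q x = 1) :
    x ∈ centralizer (fittingSubgroup D : Set D) := by
  suffices hle : fittingSubgroup D ≤ centralizer {x} by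
    rw [mem_centralizer_iff]
    exact fun y hy => mem_centralizer_singleton_iff.1 (hle hy)
  rw [Cores.iSup_pCore_eq_fittingSubgroup]
  refine iSup_le fun q => ?_
  rcases eq_or_ne (q : ℕ) p with hq | hq
  · rw [hq, h.core]; exact bot_le
  · exact fun y hy => mem_centralizer_singleton_iff.2 (commute_of_coreHom_eq_one (hx q q.2 hq) hy)

theorem eq_one_of_coreHom (h : TransData p k φ) [Group.IsSolvable D] {x : D} {i : ℕ}
    (hi : orderOf x ∣ p ^ i) (hx : ∀ q : ℕ, q.Prime → q ≠ p → coreHom D q x = 1) : x = 1 :=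
  eq_one_of_mem_fitting h (Cores.centralizer_fittingSubgroup_le (mem_centralizer_fitting h hx)) hi

/-- The structure of the `q`-cores. -/
theorem core_cases (h : TransData p k φ) {q : ℕ} (hq : q.Prime) (hqp : q ≠ p) :
    IsCyclic (pCore q D) ∨
      (q = 2 ∧ ¬ IsMulCommutative (pCore q D) ∧ ∃! x : pCore q D, orderOf x = 2) := by
  have : Fact q.Prime := ⟨hq⟩
  have := nontrivial_V h
  have hR : IsPGroup q (pCore q D) := Cores.pCore_isPGroup
  have hsq : ∀ U : Subgroup (pCore q D), Nat.card U = q ^ 2 → IsCyclic U := fun U hU =>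
    H24.isCyclic_of_card_mul_prime (φ.comp ((pCore q D).subtype.comp U.subtype))
      (fun u hu v hv => by
        by_contra hv1
        exact hu (Subtype.ext (Subtype.ext (eq_one_of_fix h
          (not_dvd_orderOf_of_isPGroup hq hqp hR (u : pCore q D).2) hv1 hv))))
      hq hq le_rfl (by rw [hU, sq])
  have huniq := H76.eq_of_card_prime_of_cyclic_sq hR hsq
  by_cases hc : IsCyclic (pCore q D)
  · exact Or.inl hc
  refine Or.inr ?_
  rcases S0016.result q hR huniq with h' | ⟨h2, -⟩
  · exact absurd h' hc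
  subst h2
  refine ⟨rfl, fun hcomm => hc ?_, ?_⟩
  · by_contra hnc
    open scoped IsMulCommutative in
    obtain ⟨B, hB, hexp⟩ := H24.exists_elementary_sq hq hR hnc
    obtain ⟨g, hg⟩ := (hsq B hB).exists_generator
    have hgc := orderOf_eq_card_of_forall_mem_zpowers hg
    rw [hB] at hgc
    have h1 : orderOf g ∣ 2 := orderOf_dvd_of_pow_eq_one (Subtype.ext (hexp g g.2))
    rw [hgc] at h1
    norm_num at h1
  · have hne : Nontrivial (pCore 2 D) :=
      not_subsingleton_iff_nontrivial.1 fun _ => hc inferInstance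
    obtain ⟨t, ht⟩ := exists_prime_orderOf_dvd_card' (G := pCore 2 D) 2
      ((hR.card_eq_or_dvd).resolve_left (Nat.ne_of_gt Finite.one_lt_card))
    refine ⟨t, ht, fun y hy => ?_⟩
    have hyt : zpowers y = zpowers t :=
      huniq _ _ (by rw [Nat.card_zpowers]; exact hy) (by rw [Nat.card_zpowers]; exact ht)
    have h2 : t ^ (2 : ℕ) = 1 := orderOf_dvd_iff_pow_eq_one.1 ht.dvd
    obtain ⟨m, hm⟩ := Subgroup.mem_zpowers_iff.1 (hyt ▸ mem_zpowers y)
    rcases Int.even_or_odd' m with ⟨j, rfl | rfl⟩
    · exfalso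
      rw [zpow_mul, zpow_two, ← sq, h2, one_zpow] at hm
      rw [← hm] at hy
      simp at hy
    · rw [← hm, zpow_add, zpow_mul, zpow_two, ← sq, h2, one_zpow, one_mul, zpow_one]

theorem mulAut_comm_of_isCyclic {R : Type*} [Group R] [Finite R] [IsCyclic R] (a b : MulAut R) :
    a * b = b * a := by
  apply (IsCyclic.mulAutMulEquiv R).injective
  rw [map_mul, map_mul, mul_comm]

/-- A `p`-element of the `p`-residual is killed by every map to a group with a normal
`p`-complement. -/
theorem map_eq_one_of_pResidual {X : Type*} [Group X] [Finite X]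
    (hX : HasNormalPComplement p X) (f : D →* X) {x : D} (hx : x ∈ pResidual p D) {i : ℕ}
    (hi : orderOf x ∣ p ^ i) : f x = 1 := by
  have hm : f x ∈ pResidual p X := Fusion.map_pResidual_le f (mem_map_of_mem f hx)
  have hnd := Fusion.hasNormalPComplement_iff_pResidual.1 hX
  exact orderOf_eq_one_iff.1 (Nat.eq_one_of_dvd_coprimes
    ((hp.out.coprime_iff_not_dvd.2 hnd).pow_left i) ((orderOf_map_dvd f x).trans hi)
    (Subgroup.orderOf_dvd_natCard _ hm))

theorem card_perm_dvd_six {T : Type*} [Finite T] (hT : Nat.card T ≤ 3) :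
    Nat.card (Equiv.Perm T) ∣ 6 := by
  rw [Nat.card_perm]
  exact Nat.factorial_dvd_factorial hT

/-- The Sylow `p`-subgroups are abelian. -/
theorem sylow_comm (h : TransData p k φ) [Group.IsSolvable D] (P : Sylow p D) :
    IsMulCommutative (P : Subgroup D) := by
  refine ⟨⟨fun a b => Subtype.ext ?_⟩⟩
  set a' : D := (a : D) with ha
  set b' : D := (b : D) with hb
  show a' * b' = b' * a'
  set c : D := a' * b' * a'⁻¹ * b'⁻¹ with hc
  have hcP : c ∈ (P : Subgroup D) :=
    mul_mem (mul_mem (mul_mem a.2 b.2) (inv_mem a.2)) (inv_mem b.2)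
  obtain ⟨i, hi⟩ := IsPGroup.iff_orderOf.1 P.isPGroup' ⟨c, hcP⟩
  rw [Subgroup.orderOf_mk] at hi
  have hcom : ∀ {A : Type _} [Group A] (f : D →* A), f a' * f b' = f b' * f a' → f c = 1 := by
    intro A _ f hf
    rw [hc, map_mul, map_mul, map_mul, map_inv, map_inv, hf]
    group
  suffices h1 : c = 1 by
    rw [hc, mul_inv_eq_one, mul_inv_eq_iff_eq_mul] at h1
    exact h1
  refine eq_one_of_coreHom h hi.dvd fun q hq hqp => ?_
  have : Fact q.Prime := ⟨hq⟩
  rcases core_cases h hq hqp with hcy | ⟨rfl, hna, hu⟩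
  · exact hcom _ (mulAut_comm_of_isCyclic _ _)
  have hdv : orderOf (coreHom D 2 c) ∣ p ^ i := (orderOf_map_dvd _ _).trans hi.dvd
  rcases aut_cases Cores.pCore_isPGroup hna hu with hA | ⟨-, hT, hK, -, -⟩
  · obtain ⟨j, hj⟩ := IsPGroup.iff_orderOf.1 hA (coreHom D 2 c)
    exact eq_one_of_two_primes hq hqp.symm hdv hj.dvd
  · set g := (theta (pCore 2 D)).comp (coreHom D 2) with hg
    have hg1 : g c = 1 := by
      apply hcom
      have hM : IsPGroup p ((P : Subgroup D).map g) := P.isPGroup'.map g
      obtain ⟨n, hn⟩ := IsPGroup.iff_card.1 hM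
      have h6 : p ^ n ∣ 6 := hn ▸ (card_subgroup_dvd_card _).trans (card_perm_dvd_six hT)
      have hn1 : n ≤ 1 := by
        by_contra hlt
        have h4 : p ^ 2 ∣ 6 := (pow_dvd_pow p (not_le.1 hlt)).trans h6
        have : p ^ 2 ≤ 6 := Nat.le_of_dvd (by norm_num) h4
        have := hp.out.two_le
        obtain rfl : p = 2 := by nlinarith
        norm_num at h4
      have hcy : IsCyclic ((P : Subgroup D).map g) := by
        interval_cases n
        · rw [pow_zero, card_eq_one] at hn
          rw [hn]; infer_instance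
        · exact isCyclic_of_prime_card (hn.trans (pow_one p))
      let _ : CommGroup ((P : Subgroup D).map g) := IsCyclic.commGroup
      exact congrArg Subtype.val (mul_comm
        (⟨g a', mem_map_of_mem g a.2⟩ : (P : Subgroup D).map g) ⟨g b', mem_map_of_mem g b.2⟩)
    obtain ⟨j, hj⟩ := IsPGroup.iff_orderOf.1 hK ⟨coreHom D 2 c, hg1⟩
    exact eq_one_of_two_primes hq hqp.symm hdv ((Subgroup.orderOf_mk _ _).symm.trans hj).dvd

theorem center_sq_eq_one {E : Type*} [Group E] [Finite E] (h8 : Nat.card E = 8)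
    (hna : ¬ IsMulCommutative E) {a : E} (ha : a ∈ center E) : a ^ 2 = 1 := by
  have hmul := (center E).card_mul_index
  rw [h8] at hmul
  have hd : Nat.card (center E) ∣ 8 := ⟨_, hmul.symm⟩
  have hidx : ¬ (center E).index ≤ 2 := by
    intro hle
    apply hna
    have hcy : IsCyclic (E ⧸ center E) := by
      have hc : Nat.card (E ⧸ center E) = (center E).index := rfl
      have hpos : (center E).index ≠ 0 := index_ne_zero_of_finite
      rcases (show (center E).index = 1 ∨ (center E).index = 2 by omega) with h | h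
      · have : Subsingleton (E ⧸ center E) :=
          (Nat.card_eq_one_iff_unique.1 (hc.trans h)).1
        infer_instance
      · have : Fact (Nat.Prime 2) := ⟨Nat.prime_two⟩
        exact isCyclic_of_prime_card (hc.trans h)
    exact MonoidHom.isMulCommutative_of_isCyclic_of_ker_le_center (QuotientGroup.mk' (center E))
      (by rw [QuotientGroup.ker_mk'])
  have hle : Nat.card (center E) ≤ 2 := by
    have : Nat.card (center E) ≤ 8 := Nat.le_of_dvd (by norm_num) hd
    interval_cases Nat.card (center E) <;> omega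
  have h1 := Subgroup.orderOf_dvd_natCard _ ha
  have h2 := (Nat.le_of_dvd Nat.card_pos h1).trans hle
  have h3 := orderOf_pos a
  refine orderOf_dvd_iff_pow_eq_one.1 ?_
  interval_cases orderOf a <;> norm_num

/-- The automorphism group induced on a quaternion core cannot be the full one. -/
theorem false_of_full [Group.IsSolvable D] (h : TransData p k φ) (hp3 : p = 3)
    (hna : ¬ IsMulCommutative (pCore 2 D)) (hu : ∃! x : pCore 2 D, orderOf x = 2)
    (h8 : Nat.card (pCore 2 D) = 8)
    (hT : Nat.card {A : Subgroup (pCore 2 D) // Nat.card A = 4} ≤ 3)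
    (hK : IsPGroup 2 (theta (pCore 2 D)).ker) (hK4 : Nat.card (theta (pCore 2 D)).ker ≤ 4)
    (hinn : ∀ e : pCore 2 D, MulAut.conj e ∈ (theta (pCore 2 D)).ker)
    (h6 : Nat.card ((theta (pCore 2 D)).comp (coreHom D 2)).range = 6) : False := by
  subst hp3
  classical
  have : Fact (Nat.Prime 2) := ⟨Nat.prime_two⟩
  set T := {A : Subgroup (pCore 2 D) // Nat.card A = 4} with hTdef
  set f2 := coreHom D 2 with hf2
  set g : D →* Equiv.Perm T := (theta (pCore 2 D)).comp f2 with hg
  have hR : IsPGroup 2 (pCore 2 D) := Cores.pCore_isPGroup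
  have : (pCore 2 D).Normal := pCore_normal 2 D
  -- the action on the subgroups of order four is full
  have hcard : Nat.card (Equiv.Perm T) = 6 := Nat.dvd_antisymm (card_perm_dvd_six hT)
    (h6 ▸ card_subgroup_dvd_card _)
  have hsurj : Function.Surjective g := by
    rw [← MonoidHom.range_eq_top]
    exact eq_top_of_card_eq _ (h6.trans hcard.symm)
  have hT3 : Nat.card T = 3 := by
    rw [Nat.card_perm] at hcard
    have : Nat.card T ≤ 3 := hT
    interval_cases Nat.card T <;> simp [Nat.factorial] at hcard ⊢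
  let e : Equiv.Perm T ≃* Equiv.Perm (Fin 3) :=
    Equiv.permCongrHom (Finite.equivFinOfCardEq hT3)
  obtain ⟨c, hcD, hc3⟩ : ∃ c ∈ commutator D, orderOf (g c) = 3 := by
    have h1 : ∃ u w : Equiv.Perm (Fin 3), u * w * u⁻¹ * w⁻¹ ≠ 1 := by decide +kernel
    have h2 : ∀ u w : Equiv.Perm (Fin 3), (u * w * u⁻¹ * w⁻¹) ^ 3 = 1 := by decide +kernel
    obtain ⟨u, w, huw⟩ := h1
    obtain ⟨x, hx⟩ := hsurj (e.symm u)
    obtain ⟨y, hy⟩ := hsurj (e.symm w)
    refine ⟨⁅x, y⁆, commutator_mem_commutator (mem_top x) (mem_top y), ?_⟩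
    have h3 : g ⁅x, y⁆ = e.symm (u * w * u⁻¹ * w⁻¹) := by
      rw [commutatorElement_def]
      simp only [map_mul, map_inv, hx, hy]
    rw [h3, MulEquiv.orderOf_eq]
    exact orderOf_eq_prime (h2 u w) huw
  -- facts about the commutator subgroup
  have hodd : ∀ q : ℕ, q.Prime → q ≠ 2 → q ≠ 3 → ∀ x ∈ commutator D, coreHom D q x = 1 := by
    intro q hq hq2 hq3 x hx
    rcases core_cases h hq hq3 with hcy | ⟨rfl, -⟩
    · have : commutator D ≤ (coreHom D q).ker := by
        rw [_root_.commutator_def, commutator_le]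
        intro a _ b _
        rw [MonoidHom.mem_ker, commutatorElement_def, map_mul, map_mul, map_mul, map_inv, map_inv,
          mulAut_comm_of_isCyclic (coreHom D q a) (coreHom D q b)]
        group
      exact this hx
    · exact absurd rfl hq2
  have hcent : ∀ x ∈ commutator D, f2 x = 1 → x ∈ fittingSubgroup D ∧
      x ∈ centralizer (fittingSubgroup D : Set D) := by
    intro x hx hx2
    have := mem_centralizer_fitting h (x := x) fun q hq hqp => by
      rcases eq_or_ne q 2 with rfl | hq2
      · exact hx2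
      · exact hodd q hq hq2 hqp x hx
    exact ⟨Cores.centralizer_fittingSubgroup_le this, this⟩
  let X : Set D := {x | x ∈ commutator D ∧ orderOf x = 3}
  have hcomm : ∀ x ∈ X, ∀ w ∈ centralizer (fittingSubgroup D : Set D), x * w = w * x := by
    intro x hx w hw
    set S := centralizer {x} ⊓ centralizer (pCore 2 D : Set D) with hS
    have hle : fittingSubgroup D ≤ pCore 2 D ⊔ S := by
      rw [Cores.iSup_pCore_eq_fittingSubgroup]
      refine iSup_le fun q => ?_
      rcases eq_or_ne (q : ℕ) 2 with hq2 | hq2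
      · rw [hq2]; exact le_sup_left
      rcases eq_or_ne (q : ℕ) 3 with hq3 | hq3
      · rw [hq3, h.core]; exact bot_le
      refine le_trans (fun y hy => mem_inf.2 ⟨mem_centralizer_singleton_iff.2
        (commute_of_coreHom_eq_one (hodd q q.2 hq2 hq3 x hx.1) hy), ?_⟩) le_sup_right
      rw [mem_centralizer_iff]
      intro z hz
      have hdis : Disjoint (pCore 2 D) (pCore (q : ℕ) D) := by
        have : Fact (q : ℕ).Prime := ⟨q.2⟩
        exact hR.disjoint_of_ne _ _ hq2.symm (pCore 2 D) (pCore (q : ℕ) D) Cores.pCore_isPGroup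
      exact Subgroup.commute_of_normal_of_disjoint _ _ (pCore_normal 2 D) (pCore_normal q D) hdis
        z y hz hy
    obtain ⟨a, ha, b, hb, hab⟩ :=
      Subgroup.mem_sup_of_normal_left.1 (hle (Cores.centralizer_fittingSubgroup_le hw))
    rw [hS, mem_inf, mem_centralizer_singleton_iff, mem_centralizer_iff] at hb
    have haz : (⟨a, ha⟩ : pCore 2 D) ∈ center (pCore 2 D) := by
      rw [mem_center_iff]
      rintro ⟨z, hz⟩
      apply Subtype.ext
      show z * a = a * z
      have h1 : z * w = w * z :=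
        mem_centralizer_iff.1 hw z (Cores.pCore_le_fittingSubgroup Nat.prime_two hz)
      have h2 : z * b = b * z := hb.2 z hz
      calc z * a = z * w * b⁻¹ := by rw [← hab]; group
        _ = a * (b * z) * b⁻¹ := by rw [h1, ← hab]; group
        _ = a * z := by rw [← h2]; group
    have hax : x * a = a * x := by
      rcases eq_or_ne (⟨a, ha⟩ : pCore 2 D) 1 with h1 | h1
      · rw [show a = 1 from congrArg Subtype.val h1]; simp
      · have ho : orderOf (⟨a, ha⟩ : pCore 2 D) = 2 :=
          orderOf_eq_prime (center_sq_eq_one h8 hna haz) h1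
        obtain ⟨t, -, ht⟩ := hu
        have h2 : f2 x ⟨a, ha⟩ = ⟨a, ha⟩ :=
          (ht _ ((MulEquiv.orderOf_eq (f2 x) _).trans ho)).trans (ht _ ho).symm
        have h3 := congrArg Subtype.val h2
        rw [hf2, coreHom_apply] at h3
        exact mul_inv_eq_iff_eq_mul.1 h3
    rw [← hab]
    calc x * (a * b) = (x * a) * b := by group
      _ = a * (b * x) := by rw [hax, hb.1]; group
      _ = a * b * x := by group
  have hgx : ∀ x ∈ X, g x ≠ 1 := by
    intro x hx hgx
    obtain ⟨j, hj⟩ := IsPGroup.iff_orderOf.1 hK ⟨f2 x, hgx⟩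
    have h1 : f2 x = 1 := eq_one_of_two_primes (p := 3) Nat.prime_two (by norm_num) (i := 1)
      ((orderOf_map_dvd f2 x).trans (by rw [hx.2, pow_one])) ((Subgroup.orderOf_mk _ _).symm.trans hj).dvd
    have := eq_one_of_mem_fitting h (hcent x hx.1 h1).1 (i := 1) (by rw [hx.2, pow_one])
    have h3 := hx.2
    rw [this, orderOf_one] at h3
    norm_num at h3
  -- few elements of order three
  have hX8 : X.ncard ≤ 8 := by
    let S := {u : Equiv.Perm T // u ≠ 1 ∧ u ^ 3 = 1}
    have hS : Nat.card S = 2 := by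
      rw [Nat.card_congr (e.toEquiv.subtypeEquiv
        (q := fun u : Equiv.Perm (Fin 3) => u ≠ 1 ∧ u ^ 3 = 1) fun u => by
          simp [← map_pow]),
        Nat.card_eq_fintype_card]
      decide
    have hs : ∀ u : Equiv.Perm T, theta (pCore 2 D) (f2 (Function.surjInv hsurj u)) = u :=
      Function.surjInv_eq hsurj
    let F : X → S × (theta (pCore 2 D)).ker := fun x =>
      (⟨g x, hgx x x.2, by rw [← map_pow, ← x.2.2, pow_orderOf_eq_one, map_one]⟩,
        ⟨(f2 (Function.surjInv hsurj (g x)))⁻¹ * f2 x, by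
          rw [MonoidHom.mem_ker, map_mul, map_inv, hs]; exact inv_mul_cancel _⟩)
    have hF : Function.Injective F := by
      intro x y hxy
      simp only [F, Prod.mk.injEq, Subtype.mk.injEq] at hxy
      have hf : f2 x = f2 y := by
        have := hxy.2
        have hg' : g (x : D) = g (y : D) := congrArg Subtype.val hxy.1
        rw [hg'] at this
        exact mul_left_cancel this
      apply Subtype.ext
      set w : D := (x : D)⁻¹ * y with hw
      obtain ⟨hwF, hwC⟩ := hcent w (mul_mem (inv_mem x.2.1) y.2.1)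
        (by rw [hw, map_mul, map_inv, hf, inv_mul_cancel])
      have hcw : Commute (x : D) w := hcomm x x.2 w hwC
      have h3 : w ^ 3 = 1 := by
        have hy3 : (y : D) ^ 3 = 1 := by rw [← y.2.2, pow_orderOf_eq_one]
        rw [show (y : D) = x * w by rw [hw]; group, hcw.mul_pow, ← x.2.2, pow_orderOf_eq_one,
          one_mul, x.2.2] at hy3
        exact hy3
      have := eq_one_of_mem_fitting h hwF (i := 1) (by rw [pow_one]; exact orderOf_dvd_of_pow_eq_one h3)
      rw [hw, inv_mul_eq_one] at this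
      exact this
    rw [← Nat.card_coe_set_eq]
    refine (Nat.card_le_card_of_injective F hF).trans ?_
    rw [Nat.card_prod, hS]
    omega
  -- the underlying group is large
  have hV81 : 81 ≤ Nat.card V := by
    rw [h.card_V]
    have hker : 8 ∣ Nat.card g.ker := by
      rw [← h8]
      refine card_dvd_of_le fun d hd => ?_
      have : f2 d = MulAut.conj (⟨d, hd⟩ : pCore 2 D) := MulEquiv.ext fun y => Subtype.ext rfl
      rw [MonoidHom.mem_ker, hg, MonoidHom.comp_apply, this]
      exact hinn _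
    have hDcard : 48 ∣ Nat.card D := by
      rw [← g.ker.card_mul_index, index_ker, h6]
      exact Nat.mul_dvd_mul_right hker 6
    obtain ⟨b, hb⟩ := h.card_D
    rw [hb] at hDcard
    have h16 : 16 ∣ 3 ^ k - 1 :=
      ((Nat.Coprime.pow 4 b (show Nat.Coprime 2 3 by norm_num))).dvd_of_dvd_mul_right
        ((show 2 ^ 4 ∣ 48 by norm_num).trans hDcard)
    have hk : 4 ≤ k := by
      by_contra hlt
      have := h.kpos
      interval_cases k <;> norm_num at h16
    calc 81 = 3 ^ 4 := by norm_num
      _ ≤ 3 ^ k := Nat.pow_le_pow_right (by norm_num) hk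
  -- fixed points are small
  let Fix : D → Subgroup V := fun x => (φ x).toMonoidHom.eqLocus (MonoidHom.id V)
  have hsmall : ∀ x ∈ X, Nat.card (Fix x) * Nat.card (Fix x) ≤ Nat.card V := by
    intro x hx
    obtain ⟨⟨c, hc⟩, hce⟩ : ∃ c : pCore 2 D, f2 x c ≠ c := by
      by_contra hne
      push Not at hne
      refine hgx x hx ?_
      rw [hg, MonoidHom.comp_apply, show f2 x = 1 from MulEquiv.ext hne, map_one]
    let d := c⁻¹ * (x * c * x⁻¹)
    have hd : d ∈ pCore 2 D := mul_mem (inv_mem hc) (‹(pCore 2 D).Normal›.conj_mem c hc x)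
    have hd1 : d ≠ 1 := fun h1 => hce (Subtype.ext (inv_mul_eq_one.1 h1).symm)
    have hnd := not_dvd_orderOf_of_isPGroup (p := 3) Nat.prime_two (by norm_num) hR hd
    rw [← Nat.card_prod]
    refine Nat.card_le_card_of_injective (fun z : Fix x × Fix x => (z.1 : V) * φ c z.2) ?_
    rintro ⟨⟨u, hu⟩, ⟨w, hw⟩⟩ ⟨⟨u', hu'⟩, ⟨w', hw'⟩⟩ heq
    simp only at heq
    set z := w / w' with hz
    have hzx : φ x z = z := (Fix x).div_mem hw hw'
    have hzc : φ x (φ c z) = φ c z := by
      have h1 : φ c z = u' / u := by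
        rw [hz, map_div, div_eq_div_iff_mul_eq_mul, mul_comm, heq]
      rw [h1]
      exact (Fix x).div_mem hu' hu
    have hzi : φ x⁻¹ z = z := by
      conv_lhs => rw [← hzx]
      rw [← MulAut.mul_apply, ← map_mul, inv_mul_cancel, map_one, MulAut.one_apply]
    have hz1 : z = 1 := by
      by_contra hne
      refine hd1 (eq_one_of_fix h hnd hne ?_)
      simp only [d, map_mul, MulAut.mul_apply, hzi, hzc]
      rw [← MulAut.mul_apply, ← map_mul, inv_mul_cancel, map_one, MulAut.one_apply]
    rw [hz, div_eq_one] at hz1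
    subst hz1
    rw [mul_left_inj] at heq
    subst heq
    rfl
  -- every element is fixed by an element of order three
  obtain ⟨x₀, hx₀⟩ : ∃ x, x ∈ X := by
    obtain ⟨⟨x, hx⟩, hox⟩ := exists_prime_orderOf_dvd_card' (G := commutator D) 3
      (hc3 ▸ (orderOf_map_dvd g c).trans (Subgroup.orderOf_dvd_natCard _ hcD))
    rw [Subgroup.orderOf_mk] at hox
    exact ⟨x, hx, hox⟩
  obtain ⟨v₀, hv₀1, hv₀⟩ : ∃ v₀ : V, v₀ ≠ 1 ∧ φ x₀ v₀ = v₀ := by
    let _ : MulAction D V := MulAction.compHom V φ
    have hZ : IsPGroup 3 (zpowers x₀) :=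
      IsPGroup.of_card (n := 1) (by rw [Nat.card_zpowers, hx₀.2, pow_one])
    obtain ⟨v, hv, hne⟩ := hZ.exists_fixed_point_of_prime_dvd_card_of_fixed_point V
      (h.card_V ▸ dvd_pow_self 3 h.kpos.ne') (a := (1 : V)) (fun z => map_one (φ z))
    exact ⟨v, hne.symm, hv ⟨x₀, mem_zpowers x₀⟩⟩
  have hfin : X.Finite := Set.toFinite X
  have := Fintype.ofFinite V
  have hcover : (Finset.univ : Finset V).erase 1 ⊆
      hfin.toFinset.biUnion fun x => ((Fix x : Set V).toFinset).erase 1 := by
    intro v hv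
    have hv1 : v ≠ 1 := (Finset.mem_erase.1 hv).1
    obtain ⟨d, rfl⟩ := h.trans v₀ v hv₀1 hv1
    refine Finset.mem_biUnion.2 ⟨d * x₀ * d⁻¹, ?_, ?_⟩
    · rw [Set.Finite.mem_toFinset]
      refine ⟨(inferInstance : (commutator D).Normal).conj_mem _ hx₀.1 d, ?_⟩
      rw [← MulAut.conj_apply, MulEquiv.orderOf_eq]
      exact hx₀.2
    · rw [Finset.mem_erase, Set.mem_toFinset]
      refine ⟨hv1, ?_⟩
      show φ (d * x₀ * d⁻¹) (φ d v₀) = φ d v₀
      rw [← MulAut.mul_apply, ← map_mul, inv_mul_cancel_right, map_mul, MulAut.mul_apply, hv₀]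
  set s := Nat.sqrt (Nat.card V) with hs
  have hbound := (Finset.card_le_card hcover).trans Finset.card_biUnion_le
  rw [Finset.card_erase_of_mem (Finset.mem_univ _), Finset.card_univ,
    ← Nat.card_eq_fintype_card] at hbound
  have hsum : ∑ x ∈ hfin.toFinset, (((Fix x : Set V).toFinset).erase 1).card ≤ 8 * (s - 1) := by
    refine (Finset.sum_le_card_nsmul _ _ (s - 1) fun x hx => ?_).trans ?_
    · rw [Finset.card_erase_of_mem (by simp), Set.toFinset_card, ← Nat.card_eq_fintype_card]
      exact Nat.sub_le_sub_right (Nat.le_sqrt.2 (hsmall x (hfin.mem_toFinset.1 hx))) 1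
    · rw [smul_eq_mul, ← Set.ncard_eq_toFinset_card X hfin]
      exact Nat.mul_le_mul_right _ hX8
  have hsq : s * s ≤ Nat.card V := Nat.sqrt_le _
  rcases Nat.lt_or_ge s 8 with hlt | hge
  · omega
  · have : 8 * s ≤ s * s := Nat.mul_le_mul_right s hge
    omega

/-- There is a normal `p`-complement. -/
theorem hasNormalPComplement (h : TransData p k φ) [Group.IsSolvable D] :
    HasNormalPComplement p D := by
  obtain ⟨P⟩ := (inferInstance : Nonempty (Sylow p D))
  refine (Fusion.hasNormalPComplement_iff_inf_eq_bot P).2 (eq_bot_iff.2 ?_)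
  rintro x ⟨hxP, hxR⟩
  obtain ⟨i, hi⟩ := IsPGroup.iff_orderOf.1 P.isPGroup' ⟨x, hxP⟩
  rw [Subgroup.orderOf_mk] at hi
  refine mem_bot.2 (eq_one_of_coreHom h hi.dvd fun q hq hqp => ?_)
  have : Fact q.Prime := ⟨hq⟩
  rcases core_cases h hq hqp with hcy | ⟨rfl, hna, hu⟩
  · have : IsMulCommutative (MulAut (pCore q D)) := ⟨⟨mulAut_comm_of_isCyclic⟩⟩
    open scoped IsMulCommutative in
    exact map_eq_one_of_pResidual Fusion.hasNormalPComplement_of_isNilpotent _ hxR hi.dvd
  have hdv : orderOf (coreHom D 2 x) ∣ p ^ i := (orderOf_map_dvd _ _).trans hi.dvd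
  rcases aut_cases Cores.pCore_isPGroup hna hu with hA | ⟨h8, hT, hK, hK4, hinn⟩
  · obtain ⟨j, hj⟩ := IsPGroup.iff_orderOf.1 hA (coreHom D 2 x)
    exact eq_one_of_two_primes hq hqp.symm hdv hj.dvd
  set g := (theta (pCore 2 D)).comp (coreHom D 2) with hg
  have hg1 : g x = 1 := by
    refine congrArg Subtype.val
      (map_eq_one_of_pResidual (X := g.range) ?_ g.rangeRestrict hxR hi.dvd)
    by_cases hd : p ∣ Nat.card g.range
    · have hd6 : Nat.card g.range ∣ 6 :=
        (card_subgroup_dvd_card _).trans (card_perm_dvd_six hT)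
      obtain rfl : p = 3 := by
        have hp6 := hd.trans hd6
        have := Nat.le_of_dvd (by norm_num) hp6
        have := hp.out.two_le
        interval_cases p <;> simp_all (config := {decide := true})
      have hle := Nat.le_of_dvd (by norm_num) hd6
      obtain ⟨m, hm⟩ := hd
      have hmpos : 0 < Nat.card g.range := Nat.card_pos
      rcases (show m = 1 ∨ m = 2 by omega) with rfl | rfl
      · exact Fusion.hasNormalPComplement_of_isPGroup (IsPGroup.of_card (n := 1) (by simpa using hm))
      · exact (false_of_full h rfl hna hu h8 hT hK hK4 hinn hm).elim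
    · exact Fusion.hasNormalPComplement_of_not_dvd hd
  obtain ⟨j, hj⟩ := IsPGroup.iff_orderOf.1 hK ⟨coreHom D 2 x, hg1⟩
  exact eq_one_of_two_primes hq hqp.symm hdv ((Subgroup.orderOf_mk _ _).symm.trans hj).dvd

end Cfsg.Agent.H64.TransSolvable
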